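import Cfsg.Agent.Lib.Classical.LinExtField.Setup

set_option autoImplicit false
set_option linter.unusedSectionVars false

/-!
An element moving a line over `K` yields one fixing a hyperplane of that line pointwise.
-/

namespace CfsgLib.LinExt

open Module

variable {F K V : Type*} [Field F] [Field K] [Algebra F K] [AddCommGroup V] [Module F V]
  [Module K V] [IsScalarTower F K V] [Finite K] [Module.Finite F K] [Module.Finite K V]

variable {M : Subgroup (V ≃ₗ[F] V)} (hM : Over K M)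
include hM

/-- The lowering step, repeated. -/
theorem exists_hyperplane_aux (hr : (finrank F K).Prime) {a : V} (ha : a ≠ 0) :
    ∀ (e : ℕ) (h : V ≃ₗ[F] V) (φ : V →ₗ[K] K) (A : K →ₗ[F] K), h ∈ M → h a = a → φ a = 0 →
      (∀ μ, A μ = φ (h (μ • a))) → A ≠ 0 → finrank F (LinearMap.range A) = e →
      ∃ g ∈ M, ∃ (L : Submodule F K) (μ₁ : K), (1 : K) ∈ L ∧ finrank F L + 1 = finrank F K ∧
        (∀ μ ∈ L, g (μ • a) = μ • a) ∧ ∀ k : K, g (μ₁ • a) ≠ k • a := by
  intro e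
  induction e using Nat.strong_induction_on with
  | _ e ih => ?_
  intro h φ A hh hha hφa hA hA0 he
  obtain ⟨μ₀, hμ₀⟩ : ∃ μ, A μ ≠ 0 := by
    by_contra hc
    push Not at hc
    exact hA0 (LinearMap.ext hc)
  -- a functional for the inverse image
  obtain ⟨ν₀, hν₀⟩ : ∃ ν : K, ∀ k : K, h.symm (ν • a) ≠ k • a := by
    by_contra hc
    push Not at hc
    choose c hc using hc
    have hinj : Function.Injective c := fun x y e' => by
      have h1 := (hc x).trans ((congrArg (· • a) e').trans (hc y).symm)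
      exact smul_left_injective K ha (h.symm.injective h1)
    obtain ⟨ν, hν⟩ := (Finite.injective_iff_surjective.1 hinj) μ₀
    refine hμ₀ ?_
    rw [hA, ← hν, ← hc, h.apply_symm_apply, map_smul, hφa, smul_zero]
  obtain ⟨ψ, hψa, hψ⟩ := exists_dual_pair hν₀ ha 0 1
  obtain ⟨BB, hBB⟩ : ∃ BB : K →ₗ[F] K, ∀ ν, BB ν = ψ (h.symm (ν • a)) :=
    ⟨ψ.restrictScalars F ∘ₗ h.symm.toLinearMap ∘ₗ (LinearMap.toSpanSingleton K V a).restrictScalars F,
      fun ν => rfl⟩
  have hB1 : BB 1 = 0 := by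
    rw [hBB, one_smul]
    conv_lhs => rw [← hha, h.symm_apply_apply]
    exact hψa
  have hBν : BB ν₀ = 1 := by rw [hBB, hψ]
  have hker : (LinearMap.ker A) ≠ ⊤ := fun e' => hμ₀ (by
    have : μ₀ ∈ LinearMap.ker A := e' ▸ Submodule.mem_top
    exact this)
  -- one step
  have hstep : ∀ lam : K, BB ∘ₗ (LinearMap.mulLeft F lam) ∘ₗ A ≠ 0 →
      ∃ (g : V ≃ₗ[F] V) (C : K →ₗ[F] K), g ∈ M ∧ (∀ μ, A μ = 0 → g (μ • a) = μ • a) ∧ g a = a ∧
        (∀ μ, C μ = ψ (g (μ • a))) ∧ (∀ μ, C μ = BB (lam * A μ)) ∧ C ≠ 0 := by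
    intro lam hne
    have hl : (lam • φ) a = 0 := by simp [hφa]
    refine ⟨h⁻¹ * (LinearEquiv.transvection hl).restrictScalars F * h,
      BB ∘ₗ (LinearMap.mulLeft F lam) ∘ₗ A, M.mul_mem (M.mul_mem (M.inv_mem hh) (hM.tv hl)) hh,
      ?_, ?_, ?_, fun μ => rfl, hne⟩
    · intro μ hμ
      show h.symm (h (μ • a) + (lam • φ) (h (μ • a)) • a) = _
      rw [LinearMap.smul_apply, ← hA, hμ, smul_zero, zero_smul, add_zero, h.symm_apply_apply]
    · show h.symm (h a + (lam • φ) (h a) • a) = _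
      rw [hha, hl, zero_smul, add_zero]
      conv_lhs => rw [← hha, h.symm_apply_apply]
    · intro μ
      show BB (lam * A μ) = ψ (h.symm (h (μ • a) + (lam • φ) (h (μ • a)) • a))
      rw [map_add, h.symm_apply_apply, map_add, map_smul, hψa, smul_zero, zero_add, hBB, hA,
        LinearMap.smul_apply, smul_eq_mul]
  have hA1 : A 1 = 0 := by rw [hA, one_smul, hha, hφa]
  have hrn := LinearMap.finrank_range_add_finrank_ker A
  by_cases he1 : e ≤ 1
  · -- rank one: finish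
    obtain ⟨g, C, hg, hgfix, -, hC, -, hC0⟩ := hstep (ν₀ / A μ₀) fun e' => by
      have h1 := LinearMap.congr_fun e' μ₀
      rw [LinearMap.comp_apply, LinearMap.comp_apply, LinearMap.mulLeft_apply, div_mul_cancel₀ _ hμ₀,
        hBν, LinearMap.zero_apply] at h1
      exact one_ne_zero h1
    refine ⟨g, hg, LinearMap.ker A, ?_⟩
    obtain ⟨μ₁, hμ₁⟩ : ∃ μ, C μ ≠ 0 := by
      by_contra hc
      push Not at hc
      exact hC0 (LinearMap.ext hc)
    refine ⟨μ₁, hA1, ?_, fun μ hμ => hgfix μ hμ, fun k hk => hμ₁ ?_⟩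
    · have h1 : finrank F (LinearMap.range A) ≠ 0 := fun h0 =>
        hA0 (LinearMap.range_eq_bot.1 (Submodule.finrank_eq_zero.1 h0))
      omega
    · rw [hC, hk, map_smul, hψa, smul_zero]
  -- rank at least two: lower it
  obtain ⟨lam, hne, μ₂, hμ₂A, hμ₂⟩ :
      ∃ lam, BB ∘ₗ (LinearMap.mulLeft F lam) ∘ₗ A ≠ 0 ∧ ∃ μ₂, A μ₂ ≠ 0 ∧ BB (lam * A μ₂) = 0 := by
    by_contra hc
    push Not at hc
    have hclosed : ∀ z₁ ∈ LinearMap.range A, z₁ ≠ 0 → ∀ z₂ ∈ LinearMap.range A, ∀ b, BB b = 0 →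
        BB (z₂ / z₁ * b) = 0 := by
      rintro _ ⟨μ₁, rfl⟩ hz₁ _ ⟨μ₂, rfl⟩ b hb
      by_contra hne
      refine hc (b / A μ₁) (fun e' => hne ?_) μ₁ hz₁ (by rw [div_mul_cancel₀ _ hz₁]; exact hb)
      have h1 := LinearMap.congr_fun e' μ₂
      rw [LinearMap.comp_apply, LinearMap.comp_apply, LinearMap.mulLeft_apply, LinearMap.zero_apply] at h1
      rw [← h1]; congr 1; ring
    set S : Submodule F K :=
      { carrier := {x | ∀ b, BB b = 0 → BB (x * b) = 0}
        add_mem' := fun {x y} hx hy b hb => by rw [add_mul, map_add, hx b hb, hy b hb, add_zero]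
        zero_mem' := fun b _ => by rw [zero_mul, map_zero]
        smul_mem' := fun c x hx b hb => by rw [smul_mul_assoc, map_smul, hx b hb, smul_zero] }
    have h1 : (1 : K) ∈ S := fun b hb => by rw [one_mul]; exact hb
    have hmul : ∀ x y, x ∈ S → y ∈ S → x * y ∈ S := fun x y hx hy b hb => by
      rw [mul_assoc]; exact hx _ (hy b hb)
    haveI := Subalgebra.isSimpleOrder_of_finrank_prime F K hr
    rcases eq_bot_or_eq_top (S.toSubalgebra h1 hmul) with hS | hS
    · have hle : LinearMap.range A ≤ Submodule.span F {A μ₀} := by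
        intro z hz
        have hzS : z / A μ₀ ∈ S.toSubalgebra h1 hmul := fun b hb =>
          hclosed _ ⟨μ₀, rfl⟩ hμ₀ z hz b hb
        rw [hS, Algebra.mem_bot] at hzS
        obtain ⟨c, hc'⟩ := hzS
        exact Submodule.mem_span_singleton.2 ⟨c, by rw [Algebra.smul_def, hc', div_mul_cancel₀ _ hμ₀]⟩
      have := (Submodule.finrank_mono hle).trans (finrank_span_singleton hμ₀).le
      omega
    · have hν : ν₀ ∈ S.toSubalgebra h1 hmul := hS ▸ Algebra.mem_top
      have h2 := hν 1 hB1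
      rw [mul_one, hBν] at h2
      exact one_ne_zero h2
  obtain ⟨g, C, hg, hgfix, hga, hC, hC', hC0⟩ := hstep lam hne
  refine ih _ ?_ g ψ C hg hga hψa hC hC0 rfl
  have hlt : LinearMap.ker A < LinearMap.ker C := by
    refine lt_of_le_of_ne (fun μ hμ => ?_) fun e' => hμ₂A ?_
    · rw [LinearMap.mem_ker] at hμ ⊢
      rw [hC', hμ, mul_zero, map_zero]
    · have : μ₂ ∈ LinearMap.ker C := by rw [LinearMap.mem_ker, hC', hμ₂]
      rwa [← e', LinearMap.mem_ker] at this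
  have a2 := LinearMap.finrank_range_add_finrank_ker C
  have a3 := Submodule.finrank_lt_finrank_of_lt hlt
  omega

/-- A hyperplane of a line fixed pointwise by an element moving the line. -/
theorem exists_hyperplane (hr : (finrank F K).Prime) (hdim : 2 ≤ finrank K V) {g : V ≃ₗ[F] V}
    (hg : g ∈ M) {a₀ : V} {μ₀ : K} (hmove : ∀ k : K, g (μ₀ • a₀) ≠ k • g a₀) :
    ∃ h ∈ M, ∃ a : V, a ≠ 0 ∧ ∃ (L : Submodule F K) (μ₁ : K), (1 : K) ∈ L ∧
      finrank F L + 1 = finrank F K ∧ (∀ μ ∈ L, h (μ • a) = μ • a) ∧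
        ∀ k : K, h (μ₁ • a) ≠ k • a := by
  have ha₀ : a₀ ≠ 0 := fun e => hmove 0 (by rw [e, smul_zero, map_zero, smul_zero])
  have hga : g a₀ ≠ 0 := fun e => ha₀ (g.injective (by rw [e, map_zero]))
  obtain ⟨n, hn, hnl, hna⟩ := hM.exists_move hdim hga ha₀
  have hoff : ∀ k : K, (n * g) (μ₀ • a₀) ≠ k • a₀ := fun k e => hmove k (n.injective (by
    rw [LinearEquiv.mul_apply] at e
    rw [e, hnl, hna]))
  obtain ⟨φ, hφa, hφ⟩ := exists_dual_pair hoff ha₀ 0 1
  obtain ⟨g', hg', L, μ₁, h1, h2, h3, h4⟩ := exists_hyperplane_aux hM hr ha₀ _ (n * g) φ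
    (φ.restrictScalars F ∘ₗ (n * g).toLinearMap ∘ₗ (LinearMap.toSpanSingleton K V a₀).restrictScalars F)
    (M.mul_mem hn hg) (by rw [LinearEquiv.mul_apply, hna]) hφa (fun μ => rfl)
    (fun e => one_ne_zero (α := K) (by rw [← hφ]; exact LinearMap.congr_fun e μ₀)) rfl
  exact ⟨g', hg', a₀, ha₀, L, μ₁, h1, h2, h3, h4⟩

end CfsgLib.LinExt
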