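import Cfsg.Agent.Lib.Classical.LinExtField.Moves
import Cfsg.Agent.Lib.Classical.Transvection
import Cfsg.Prelude.Def_GeometricClasses

set_option autoImplicit false
set_option linter.unusedSectionVars false

/-!
The normaliser of an extension field of prime degree is maximal in the general linear group and
cuts a maximal subgroup out of the special linear group.
-/

namespace CfsgLib.LinExt

open Matrix Module

variable {F : Type*} [Field F] [Finite F] {ι : Type} [Fintype ι] [DecidableEq ι]

/-- Invertible matrices as linear equivalences. -/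
noncomputable def glEquiv : GL ι F ≃* ((ι → F) ≃ₗ[F] (ι → F)) :=
  (Matrix.GeneralLinearGroup.toLin).trans
    (LinearMap.GeneralLinearGroup.generalLinearEquiv F (ι → F))

theorem glEquiv_apply (g : GL ι F) (x : ι → F) :
    glEquiv g x = (g : Matrix ι ι F) *ᵥ x := rfl

theorem core {K : Type*} [Field K] [Algebra F K] [Finite K] (hrK : (Module.finrank F K).Prime)
    (hlt : Module.finrank F K < Fintype.card ι) (ρ : K →ₐ[F] Matrix ι ι F) :
    IsCoatom (Cfsg.Geo.subalgebraNormalizer ρ.range) ∧
      Cfsg.Geo.IsMaximalIn (Cfsg.Geo.specialLinear ι F)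
        (Cfsg.Geo.subalgebraNormalizer ρ.range ⊓ Cfsg.Geo.specialLinear ι F) := by
  classical
  letI : Module K (ι → F) := Module.compHom _ ρ.toRingHom
  have hsm : ∀ (k : K) (x : ι → F), k • x = ρ k *ᵥ x := fun k x => rfl
  haveI : IsScalarTower F K (ι → F) := IsScalarTower.of_algebraMap_smul fun c x => by
    rw [hsm, AlgHom.commutes, Algebra.algebraMap_eq_smul_one, smul_mulVec, one_mulVec]
  haveI : FiniteDimensional F K := Module.Finite.of_finite
  haveI : Module.Finite K (ι → F) := Module.Finite.of_restrictScalars_finite F K (ι → F)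
  haveI : Nontrivial ι := Fintype.one_lt_card_iff_nontrivial.1 (by have := hrK.two_le; omega)
  have hdim : 2 ≤ finrank K (ι → F) := by
    have h := Module.finrank_mul_finrank F K (ι → F)
    rw [Module.finrank_fintype_fun_eq_card] at h
    by_contra hc
    have : finrank F K * finrank K (ι → F) ≤ finrank F K * 1 := Nat.mul_le_mul_left _ (by omega)
    omega
  set N := Cfsg.Geo.subalgebraNormalizer ρ.range with hNdef
  set SL := Cfsg.Geo.specialLinear ι F with hSLdef
  have hSL : ∀ g : GL ι F, g ∈ SL ↔ LinearMap.det (glEquiv g).toLinearMap = 1 := fun g => by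
    rw [hSLdef, Cfsg.Geo.specialLinear, MonoidHom.mem_ker, Units.ext_iff,
      Matrix.GeneralLinearGroup.val_det_apply, Units.val_one, ← LinearMap.det_toLin']
    rfl
  -- linear maps over `K` lie in the normaliser
  have hlinN : ∀ g : GL ι F, (∀ (k : K) x, glEquiv g (k • x) = k • glEquiv g x) → g ∈ N := by
    intro g hg
    have hc : ∀ k ∈ ρ.range, (g : Matrix ι ι F) * k = k * (g : Matrix ι ι F) := fun k hk => by
      obtain ⟨k0, rfl⟩ := hk
      refine Matrix.ext_iff_mulVec.2 fun x => ?_
      rw [← mulVec_mulVec, ← mulVec_mulVec]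
      exact hg k0 x
    intro k
    constructor
    · intro hk
      rw [hc k hk, mul_assoc, Units.mul_inv, mul_one]
      exact hk
    · intro hk
      have h3 := hc _ hk
      rw [mul_assoc _ _ (g : Matrix ι ι F), Units.inv_mul, mul_one] at h3
      have h2 : k = (g : Matrix ι ι F) * k * ((g⁻¹ : GL ι F) : Matrix ι ι F) :=
        (Units.mul_right_inj g).1 h3.symm
      rw [h2]; exact hk
  -- a special element moving a line
  have hout : ∃ g ∈ SL, g ∉ N := by
    obtain ⟨a, ha⟩ : ∃ a : ι → F, a ≠ 0 := exists_ne 0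
    obtain ⟨b, hb⟩ := exists_off hdim a
    obtain ⟨ψ, hψa, hψb⟩ := exists_dual_pair hb ha 1 0
    obtain ⟨ω, hω⟩ : ∃ ω : K, ω ∉ Submodule.span F {(1 : K)} := by
      refine not_forall.1 fun hall => ?_
      have h3 := Submodule.eq_top_iff'.2 hall
      have h4 : finrank F (Submodule.span F {(1 : K)}) = finrank F K := by rw [h3, finrank_top]
      rw [finrank_span_singleton one_ne_zero] at h4
      have := hrK.one_lt
      omega
    obtain ⟨ℓ, hℓ, hker⟩ := Submodule.exists_le_ker_of_notMem hω
    have hℓ1 : ℓ 1 = 0 := hker (Submodule.mem_span_singleton_self _)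
    obtain ⟨f, hf⟩ : ∃ f : (ι → F) →ₗ[F] F, ∀ x, f x = ℓ (ψ x) :=
      ⟨ℓ ∘ₗ ψ.restrictScalars F, fun x => rfl⟩
    have hfb : f b = 0 := by rw [hf, hψb, map_zero]
    refine ⟨glEquiv.symm (LinearEquiv.transvection hfb), (hSL _).2 ?_, fun hN => ?_⟩
    · rw [MulEquiv.apply_symm_apply, LinearEquiv.transvection.coe_toLinearMap,
        LinearMap.transvection.det, hfb, add_zero]
    set g := glEquiv.symm (LinearEquiv.transvection hfb) with hg
    have hgx : ∀ x, glEquiv g x = x + f x • b := fun x => by
      rw [hg, MulEquiv.apply_symm_apply]; rfl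
    obtain ⟨k', hk'⟩ := (hN (ρ ω)).1 ⟨ω, rfl⟩
    have hga : glEquiv g a = a := by rw [hgx, hf, hψa, hℓ1, zero_smul, add_zero]
    have e : glEquiv g (ω • a) = k' • a := by
      conv_rhs => rw [← hga]
      rw [hsm k', show ρ k' = _ from hk', glEquiv_apply _ a]
      rw [mulVec_mulVec, mul_assoc, mul_assoc, Units.inv_mul, mul_one, glEquiv_apply]
      exact mulVec_mulVec a _ _
    rw [hgx, hf, map_smul ψ, hψa, smul_eq_mul, mul_one] at e
    refine hb ((algebraMap F K (ℓ ω))⁻¹ * (k' - ω)) ?_
    rw [mul_smul, sub_smul, ← e, add_sub_cancel_left, ← map_inv₀, algebraMap_smul,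
      inv_smul_smul₀ hℓ]
  -- the overgroups
  have key : ∀ M : Subgroup (GL ι F), N ⊓ SL ≤ M → M ≤ N ∨ SL ≤ M := by
    intro M hM
    set M' := M.map (glEquiv (ι := ι) (F := F)).toMonoidHom with hM'
    have hover : Over K M' := by
      refine ⟨fun g hg => ⟨glEquiv.symm (g.restrictScalars F), hM ⟨hlinN _ fun k x => ?_, (hSL _).2 ?_⟩,
        glEquiv.apply_symm_apply _⟩⟩
      · rw [MulEquiv.apply_symm_apply]; exact map_smul g k x
      · rw [MulEquiv.apply_symm_apply]; exact hg
    by_cases hbad : ∃ g ∈ M, ∃ (a : ι → F) (μ : K), ∀ k : K, glEquiv g (μ • a) ≠ k • glEquiv g a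
    · right
      obtain ⟨g, hg, a, μ, hmove⟩ := hbad
      have hall := hover.all_of_move hrK hdim (g := glEquiv g) ⟨g, hg, rfl⟩ hmove
      have htop : M.comap SpecialLinearGroup.toGL = ⊤ := by
        refine CfsgLib.Classical.eq_top_of_transvection_mem _ fun i j hij c => ?_
        obtain ⟨-, _, ⟨g', hg', rfl⟩, hx⟩ := hall (Pi.single i (1 : F))
          (c • LinearMap.proj j) (by simp [Pi.single_eq_of_ne hij.symm])
        have e : g' = SpecialLinearGroup.toGL (SpecialLinearGroup.transvection hij c) := by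
          refine glEquiv.injective (LinearEquiv.ext fun x => (hx x).trans ?_)
          rw [glEquiv_apply]
          funext k
          simp [SpecialLinearGroup.transvection_coe, add_mulVec, single_mulVec_eq, Pi.single_apply]
        show SpecialLinearGroup.toGL (SpecialLinearGroup.transvection hij c) ∈ M
        rw [← e]; exact hg'
      intro s hs
      have hdet : Matrix.det (s : Matrix ι ι F) = 1 := by
        have h1 := congrArg Units.val (MonoidHom.mem_ker.1 hs)
        rwa [Matrix.GeneralLinearGroup.val_det_apply, Units.val_one] at h1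
      obtain ⟨u, hu⟩ : ∃ u : SpecialLinearGroup ι F, u = (⟨(s : Matrix ι ι F), hdet⟩ : SpecialLinearGroup ι F) :=
        ⟨_, rfl⟩
      have h1 : SpecialLinearGroup.toGL u ∈ M :=
        Subgroup.mem_comap.1 (show u ∈ M.comap SpecialLinearGroup.toGL by
          rw [htop]; exact Subgroup.mem_top u)
      rw [hu] at h1
      rwa [show SpecialLinearGroup.toGL ⟨(s : Matrix ι ι F), hdet⟩ = s from Units.ext rfl] at h1
    · left
      push Not at hbad
      have key : ∀ g ∈ M, ∀ k ∈ ρ.range,
          (g : Matrix ι ι F) * k * ((g⁻¹ : GL ι F) : Matrix ι ι F) ∈ ρ.range := by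
        intro g hg k hk
        obtain ⟨k, rfl⟩ := hk
        obtain ⟨k', hk'⟩ := semilinear hdim (g := glEquiv g) (fun a μ => hbad g hg a μ) k
        have e1 : (g : Matrix ι ι F) * ρ k = ρ k' * (g : Matrix ι ι F) := by
          refine Matrix.ext_iff_mulVec.2 fun x => ?_
          rw [← mulVec_mulVec, ← mulVec_mulVec]
          exact hk' x
        rw [show ρ.toRingHom k = ρ k from rfl, e1, mul_assoc, Units.mul_inv, mul_one]
        exact ⟨k', rfl⟩
      intro g hg k
      refine ⟨key g hg k, fun h => ?_⟩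
      have h3 := key g⁻¹ (M.inv_mem hg) _ h
      simpa [mul_assoc, ← mul_assoc ((g⁻¹ : GL ι F) : Matrix ι ι F)] using h3
  obtain ⟨g₀, hg₀, hg₀N⟩ := hout
  refine ⟨⟨fun e => hg₀N (e ▸ Subgroup.mem_top _), fun M hM => ?_⟩,
    lt_of_le_not_ge inf_le_right fun h => hg₀N (h hg₀).1, fun M h1 h2 => ?_⟩
  · have hSLM : SL ≤ M := (key M (inf_le_left.trans hM.le)).resolve_left hM.not_ge
    refine eq_top_iff.2 fun g _ => ?_
    obtain ⟨a, ha⟩ : ∃ a : ι → F, a ≠ 0 := exists_ne 0
    obtain ⟨b, hb⟩ := exists_off hdim a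
    obtain ⟨ψ, hψa, -⟩ := exists_dual_pair hb ha 1 0
    obtain ⟨z, hz⟩ := FiniteField.norm_surjective F K (LinearMap.det (glEquiv g).toLinearMap)
    have hz0 : z ≠ 0 := fun e => by
      rw [e, Algebra.norm_zero] at hz
      exact (LinearEquiv.isUnit_det' (glEquiv g)).ne_zero hz.symm
    let L : K → ((ι → F) →ₗ[K] (ι → F)) := fun c => LinearMap.transvection ((c - 1) • ψ) a
    have hcomp : ∀ c d : K, c * d = 1 → ∀ x, L c (L d x) = x := fun c d h x => by
      simp only [L, LinearMap.transvection.apply, LinearMap.smul_apply, smul_eq_mul, map_add, map_smul,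
        hψa, mul_one]
      linear_combination (norm := module) (congrArg (fun k : K => (ψ x * k) • a) h)
    let e : (ι → F) ≃ₗ[K] (ι → F) := LinearEquiv.ofLinearMap (L z) (L z⁻¹)
      (LinearMap.ext fun x => hcomp _ _ (mul_inv_cancel₀ hz0) x)
      (LinearMap.ext fun x => hcomp _ _ (inv_mul_cancel₀ hz0) x)
    have hdet : LinearMap.det (e.restrictScalars F).toLinearMap = LinearMap.det (glEquiv g).toLinearMap := by
      rw [show (e.restrictScalars F).toLinearMap = (L z).restrictScalars F from rfl,
        LinearMap.det_restrictScalars, LinearMap.transvection.det, LinearMap.smul_apply, hψa,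
        smul_eq_mul, mul_one, add_sub_cancel, hz]
    obtain ⟨x, hx⟩ : ∃ x, x = glEquiv.symm (e.restrictScalars F) := ⟨_, rfl⟩
    have hxM : x ∈ M := hM.le (hlinN _ fun k y => by
      rw [hx, MulEquiv.apply_symm_apply]; exact map_smul e k y)
    have hgx : g * x⁻¹ ∈ SL := by
      have e1 : Matrix.GeneralLinearGroup.det x = Matrix.GeneralLinearGroup.det g := by
        refine Units.ext ?_
        rw [Matrix.GeneralLinearGroup.val_det_apply, Matrix.GeneralLinearGroup.val_det_apply,
          ← LinearMap.det_toLin', ← LinearMap.det_toLin']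
        show LinearMap.det (glEquiv x).toLinearMap = LinearMap.det (glEquiv g).toLinearMap
        rw [hx, MulEquiv.apply_symm_apply, hdet]
      rw [hSLdef, Cfsg.Geo.specialLinear, MonoidHom.mem_ker, map_mul, map_inv, e1, mul_inv_cancel]
    have := M.mul_mem (hSLM hgx) hxM
    rwa [inv_mul_cancel_right] at this
  · rcases key M h1 with h | h
    · exact Or.inl (le_antisymm (le_inf h h2) h1)
    · exact Or.inr (le_antisymm h2 h)

theorem isMaximal {r : ℕ} (hr : r.Prime) (hlt : r < Fintype.card ι)
    (K : Subalgebra F (Matrix ι ι F)) (hK : Cfsg.Geo.IsFieldSubalgebra r K) :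
    IsCoatom (Cfsg.Geo.subalgebraNormalizer K) ∧
      Cfsg.Geo.IsMaximalIn (Cfsg.Geo.specialLinear ι F)
        (Cfsg.Geo.subalgebraNormalizer K ⊓ Cfsg.Geo.specialLinear ι F) := by
  haveI : Nonempty ι := Fintype.card_pos_iff.1 (by omega)
  have hfield : IsField K :=
    ⟨⟨0, 1, fun e => zero_ne_one (congrArg Subtype.val e)⟩,
      fun a b => Subtype.ext (hK.comm a a.2 b b.2),
      fun {a} ha => by
        obtain ⟨y, hy, e⟩ := hK.inv a a.2 fun e => ha (Subtype.ext e)
        exact ⟨⟨y, hy⟩, Subtype.ext e⟩⟩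
  letI : Field K := hfield.toField
  haveI : Finite K := Finite.of_injective _ Subtype.val_injective
  have hrK : Module.finrank F K = r := hK.finrank_eq
  have h := core (ι := ι) (K := K) (by rw [hrK]; exact hr) (by rw [hrK]; exact hlt) K.val
  rwa [Subalgebra.range_val] at h

end CfsgLib.LinExt
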