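import Cfsg.Agent.Lib.Classical.LinExtField.PlaneFour

set_option autoImplicit false
set_option linter.unusedSectionVars false

/-!
An element moving a line over `K` gives all transvections; one that moves none is semilinear.
-/

namespace CfsgLib.LinExt

open Module

variable {F K V : Type*} [Field F] [Field K] [Algebra F K] [AddCommGroup V] [Module F V]
  [Module K V] [IsScalarTower F K V] {M : Subgroup (V ≃ₗ[F] V)}

/-- A map sending lines to lines normalises `K`. -/
theorem semilinear (hdim : 2 ≤ finrank K V) {g : V ≃ₗ[F] V}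
    (hl : ∀ a (μ : K), ∃ k : K, g (μ • a) = k • g a) (k : K) :
    ∃ k' : K, ∀ x, g (k • x) = k' • g x := by
  choose ν hν using fun x => hl x k
  have indep : ∀ {x y : V}, g x ≠ 0 → (∀ d : K, g y ≠ d • g x) → ν x = ν y := by
    intro x y hx hy
    have h := hν (x + y)
    rw [smul_add, map_add, map_add, hν, hν, smul_add] at h
    have h' : (ν x - ν (x + y)) • g x + (ν y - ν (x + y)) • g y = 0 := by
      rw [sub_smul, sub_smul]
      linear_combination (norm := module) h
    by_cases hc : ν y - ν (x + y) = 0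
    · rw [hc, zero_smul, add_zero, smul_eq_zero] at h'
      exact (sub_eq_zero.1 (h'.resolve_right hx)).trans (sub_eq_zero.1 hc).symm
    · exfalso
      refine hy (-(ν x - ν (x + y)) / (ν y - ν (x + y))) ?_
      rw [div_eq_inv_mul, mul_smul, neg_smul, ← eq_neg_iff_add_eq_zero.2 (by rwa [add_comm] at h'),
        inv_smul_smul₀ hc]
  obtain ⟨y1, hy1⟩ := exists_off hdim (0 : V)
  have hgne : ∀ {x : V}, x ≠ 0 → g x ≠ 0 := fun hx e => hx (g.injective (by rw [e, map_zero]))
  obtain ⟨x0, hx0⟩ : ∃ x0 : V, x0 ≠ 0 := ⟨y1, by simpa using hy1 0⟩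
  obtain ⟨b, hb⟩ := exists_off hdim (g x0)
  obtain ⟨y0, hy0⟩ : ∃ y0, ∀ d : K, g y0 ≠ d • g x0 :=
    ⟨g.symm b, fun d => by rw [g.apply_symm_apply]; exact hb d⟩
  refine ⟨ν x0, fun x => ?_⟩
  by_cases hx : x = 0
  · rw [hx, smul_zero, map_zero, smul_zero]
  rw [hν]
  congr 1
  by_cases hc : ∀ d : K, g x ≠ d • g x0
  · exact (indep (hgne hx0) hc).symm
  · push Not at hc
    obtain ⟨d, hd⟩ := hc
    have h1 := indep (hgne hx0) hy0
    rw [h1]
    refine (indep (hgne hx) fun d' e => hy0 (d' * d) ?_)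
    rw [e, hd, smul_smul]

variable (hM : Over K M) [Finite K] [Module.Finite F K] [Module.Finite K V]
include hM

/-- An element moving a line gives all transvections. -/
theorem Over.all_of_move (hr : (finrank F K).Prime) (hdim : 2 ≤ finrank K V) {g : V ≃ₗ[F] V}
    (hg : g ∈ M) {a₀ : V} {μ₀ : K} (hmove : ∀ k : K, g (μ₀ • a₀) ≠ k • g a₀) :
    ∀ (v : V) (f : V →ₗ[F] F), f v = 0 → Tr M v f := by
  obtain ⟨h, hh, a, ha, L, μ₁, h1, hL, hfix, hoff⟩ := exists_hyperplane hM hr hdim hg hmove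
  obtain ⟨α, S⟩ := exists_shear hh ha h1 hL hfix hoff
  obtain ⟨d, hd⟩ : ∃ d, d = h (μ₁ • a) - μ₁ • a := ⟨_, rfl⟩
  rw [← hd] at S
  obtain ⟨p, f, hpf, hp, hf⟩ : ∃ (p : V) (f : V →ₗ[F] F), Tr M p f ∧ p ≠ 0 ∧ f ≠ 0 := by
    by_cases h3 : 3 ≤ finrank K V
    · exact exists_tr_three hM S h3 hd
    have h2 : finrank K V = 2 := by omega
    obtain ⟨φ, hφa, hφd⟩ := exists_dual_pair S.off ha 0 1
    obtain ⟨χ, hχa, hχd⟩ := exists_dual_pair S.off ha 1 0
    obtain ⟨ψ, hψa, hψd⟩ := exists_dual_pair S.off' ha 0 (-1)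
    by_cases hq : ∃ s : F, s ≠ 0 ∧ s ≠ 1
    · exact exists_tr_big hM S hφa hφd hψa hψd hd hq
    push Not at hq
    have hq' : ∀ c : F, c = 0 ∨ c = 1 := fun c => (em (c = 0)).imp_right (hq c)
    by_cases hr3 : 3 ≤ finrank F K
    · exact exists_tr_two hM S hφa hφd hψa hψd hd hq' hr hr3
    refine exists_tr_four hM S hφa hφd hψa hψd hd hq' (by have := hr.two_le; omega) hχa hχd fun x => ?_
    have hli : LinearIndependent K ![a, d] := by
      rw [LinearIndependent.pair_iff]
      intro s t hst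
      have e1 := congrArg χ hst
      have e2 := congrArg φ hst
      simp [hχa, hχd, hφa, hφd] at e1 e2
      exact ⟨e1, e2⟩
    have htop := hli.span_eq_top_of_card_eq_finrank (by rw [Fintype.card_fin, h2])
    rw [Matrix.range_cons, Matrix.range_cons, Matrix.range_empty, Set.union_empty,
      Set.singleton_union] at htop
    obtain ⟨u, v, rfl⟩ := Submodule.mem_span_pair.1 (show x ∈ Submodule.span K {a, d} by
      rw [htop]; exact Submodule.mem_top)
    simp [hχa, hχd, hφa, hφd]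
  exact hM.all_tr hr hdim hpf hp hf

end CfsgLib.LinExt
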