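import Cfsg.Agent.Lib.Classical.LinExtField.Root

set_option autoImplicit false
set_option linter.unusedSectionVars false

/-!
Two dimensions over `K`: a transvection over `F` from commutators of root elements.
-/

namespace CfsgLib.LinExt

open Module

variable {F K V : Type*} [Field F] [Field K] [Algebra F K] [AddCommGroup V] [Module F V]
  [Module K V] [IsScalarTower F K V] {M : Subgroup (V ≃ₗ[F] V)}

/-- The rank one map with functional `α (v * ·)` and value `u`. -/
def simp1 (α : K →ₗ[F] F) (u v : K) : K →ₗ[F] K := (α ∘ₗ LinearMap.mulLeft F v).smulRight u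

theorem simp1_apply (α : K →ₗ[F] F) (u v j : K) : simp1 α u v j = α (v * j) • u := rfl

/-- Diagonal elements, all of determinant one over a field of two elements. -/
theorem Over.exists_diag (hM : Over K M) (hq : ∀ c : F, c = 0 ∨ c = 1) {χ : V →ₗ[K] K} {a : V}
    (hχa : χ a = 1) {b c : K} (hb : b ≠ 0) (hc : c ≠ 0) :
    ∃ g ∈ M, (∀ x, g.symm x = b • x + ((c⁻¹ - b) * χ x) • a) ∧ (∀ k : K, g (k • a) = (c * k) • a) ∧
      ∀ x, g x = b⁻¹ • x + ((c - b⁻¹) * χ x) • a := by
  let g : V ≃ₗ[K] V :=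
    { toFun := fun x => b⁻¹ • x + ((c - b⁻¹) * χ x) • a
      map_add' := fun x y => by rw [map_add, mul_add, add_smul, smul_add]; abel
      map_smul' := fun k x => by
        rw [map_smul, RingHom.id_apply, smul_add, smul_comm b⁻¹ k x, smul_eq_mul, smul_smul,
          mul_left_comm, smul_smul]
      invFun := fun x => b • x + ((c⁻¹ - b) * χ x) • a
      left_inv := fun x => by
        dsimp only
        rw [map_add, map_smul χ, map_smul χ, hχa]
        match_scalars
        · linear_combination mul_inv_cancel₀ hb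
        · linear_combination χ x * inv_mul_cancel₀ hc - χ x * mul_inv_cancel₀ hb
      right_inv := fun x => by
        dsimp only
        rw [map_add, map_smul χ, map_smul χ, hχa]
        match_scalars
        · linear_combination inv_mul_cancel₀ hb
        · linear_combination χ x * mul_inv_cancel₀ hc - χ x * inv_mul_cancel₀ hb }
  have hg : g.restrictScalars F ∈ M := hM.lin g (by
    refine (hq _).resolve_left ?_
    exact (LinearEquiv.isUnit_det' (g.restrictScalars F)).ne_zero)
  refine ⟨g.restrictScalars F, hg, fun x => rfl, fun k => ?_, fun x => rfl⟩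
  show g (k • a) = _
  rw [map_smul g]
  show k • (b⁻¹ • a + ((c - b⁻¹) * χ a) • a) = _
  rw [hχa, ← add_smul, smul_smul]
  congr 1
  ring

variable (hM : Over K M) [Finite K] [Module.Finite F K] [Module.Finite K V]
include hM

variable {h : V ≃ₗ[F] V} {a d d' : V} {α : K →ₗ[F] F} {μ₁ : K} (S : Shear M h a d d' α μ₁)
  {φ ψ : V →ₗ[K] K} (hφa : φ a = 0) (hφd : φ d = 1) (hψa : ψ a = 0) (hψd : ψ d' = -1)
  (hd : d = h (μ₁ • a) - μ₁ • a)
include S hφa hφd hψa hψd hd

omit hM hφa hφd hd in
theorem plane_line (ν : K) : ψ (h.symm (ν • a)) = α ν • (1 : K) := by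
  rw [z_line S hψa, hψd, smul_neg, neg_neg]

omit hM hφa hφd in
theorem plane_d : ψ (h.symm d) = -1 := by rw [z_d S hψa hd, hψd]

/-- The commutator of two root elements. -/
theorem inM_plane (lam lam' : K) (h' : α lam' = 0) :
    InM M fun x => α (lam' * φ x) • (lam • a + α lam • d + α lam • (lam' • a))
      - α (lam * ψ (h.symm x)) • (lam' • a) := by
  have hl := plane_line S hψa hψd
  have hzd := plane_d S hψa hψd hd
  obtain ⟨N, hN⟩ : ∃ N : V →ₗ[F] V, ∀ x,
      N x = (lam * ψ (h.symm x)) • a + α (lam * ψ (h.symm x)) • d :=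
    ⟨((LinearMap.toSpanSingleton K V a).restrictScalars F + α.smulRight d) ∘ₗ LinearMap.mulLeft F lam ∘ₗ
      ψ.restrictScalars F ∘ₗ h.symm.toLinearMap, fun x => rfl⟩
  obtain ⟨N', hN'⟩ : ∃ N' : V →ₗ[F] V, ∀ x, N' x = (lam' * φ x) • a :=
    ⟨((lam' • φ).smulRight a).restrictScalars F, fun x => rfl⟩
  have hZN : ∀ x, ψ (h.symm (N x)) = 0 := fun x => by
    rw [hN, map_add, map_add, hl, map_smul h.symm, LinearMap.map_smul_of_tower, hzd, smul_neg,
      add_neg_cancel]
  have h1 : InM M N := (inM_conj hM S hψa lam).congr fun x => by rw [hN]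
  have h2 : InM M N' := (hM.root (φ := lam' • φ) (c := a) (by simp [hφa])).congr fun x => by
    rw [hN']; rfl
  have hw : ∀ x, N (N' x) = α (lam' * φ x) • (lam • a + α lam • d) := fun x => by
    rw [hN', hN, hl, mul_smul_comm, mul_one, map_smul α, smul_assoc, smul_add, smul_assoc]
  have hNa : N (lam' • a) = 0 := by
    rw [hN, hl, h', zero_smul, mul_zero, zero_smul, map_zero, zero_smul, add_zero]
  have hN'N : ∀ x, N' (N x) = α (lam * ψ (h.symm x)) • (lam' • a) := fun x => by
    rw [hN', hN, map_add, map_smul φ, hφa, smul_zero, zero_add, LinearMap.map_smul_of_tower, hφd,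
      mul_smul_comm, mul_one, smul_assoc]
  have hN'w : N' (lam • a + α lam • d) = α lam • (lam' • a) := by
    rw [hN', map_add, map_smul φ, hφa, smul_zero, zero_add, LinearMap.map_smul_of_tower, hφd,
      mul_smul_comm, mul_one, smul_assoc]
  refine (h1.commutator h2
    (fun x => by rw [hN (N x), hZN, mul_zero, zero_smul, map_zero, zero_smul, add_zero])
    (fun x => by rw [hN', hN', map_smul φ, hφa, smul_zero, mul_zero, zero_smul])).congr fun x => ?_
  rw [hw, hN'N, map_smul N', hN'w]
  simp only [map_smul N, hNa, smul_zero, add_zero, sub_zero]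
  module

/-- A field of at least three elements. -/
theorem exists_tr_big (hq : ∃ s : F, s ≠ 0 ∧ s ≠ 1) :
    ∃ (p : V) (f : V →ₗ[F] F), Tr M p f ∧ p ≠ 0 ∧ f ≠ 0 := by
  obtain ⟨s, hs0, hs1⟩ := hq
  have hl := plane_line S hψa hψd
  obtain ⟨w, hw⟩ : ∃ w, w = μ₁ • a + d := ⟨_, rfl⟩
  obtain ⟨e, he⟩ : ∃ e : V →ₗ[F] F, ∀ x, e x = α (μ₁ * ψ (h.symm x)) :=
    ⟨α ∘ₗ LinearMap.mulLeft F μ₁ ∘ₗ ψ.restrictScalars F ∘ₗ h.symm.toLinearMap, fun x => rfl⟩
  obtain ⟨f, hf⟩ : ∃ f : V →ₗ[F] F, ∀ x, f x = α (φ x) :=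
    ⟨α ∘ₗ φ.restrictScalars F, fun x => rfl⟩
  have hea : e a = 0 := by
    rw [he, ← one_smul K a, hl, S.one, zero_smul, mul_zero, map_zero]
  have hew : e w = 0 := by
    rw [he, hw, map_add, map_add, hl, plane_d S hψa hψd hd, S.norm, one_smul, add_neg_cancel,
      mul_zero, map_zero]
  have hfa : f a = 0 := by rw [hf, hφa, map_zero]
  have hfw : f w = 0 := by
    rw [hf, hw, map_add, map_smul φ, hφa, smul_zero, zero_add, hφd, S.one]
  obtain ⟨H, hH⟩ : ∃ H : V →ₗ[F] V, ∀ x, H x = (s * f x) • (w + s • a) - e x • (s • a) :=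
    ⟨(s • f).smulRight (w + s • a) - e.smulRight (s • a), fun x => rfl⟩
  obtain ⟨H', hH'⟩ : ∃ H' : V →ₗ[F] V, ∀ x, H' x = f x • (s • w + s • a) - (s * e x) • a :=
    ⟨f.smulRight (s • w + s • a) - (s • e).smulRight a, fun x => rfl⟩
  have h1 : InM M H := (inM_plane hM S hφa hφd hψa hψd hd μ₁ (s • 1) (by
    rw [map_smul, S.one, smul_zero])).congr fun x => by
      rw [hH, hf, he, hw, S.norm, one_smul, one_smul, smul_mul_assoc, one_mul, map_smul, smul_eq_mul,
        smul_assoc, one_smul]
  have h2 : InM M H' := (inM_plane hM S hφa hφd hψa hψd hd (s • μ₁) 1 S.one).congr fun x => by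
      rw [hH', hf, he, hw, map_smul, S.norm, smul_mul_assoc, map_smul, one_mul, smul_eq_mul,
        smul_eq_mul, mul_one, one_smul, smul_assoc]
      module
  have hkill : ∀ x, H (H' x) = 0 := fun x => by
    simp [hH, hH', map_sub, map_add, map_smul, hea, hew, hfa, hfw]
  have hkill' : ∀ x, H' (H' x) = 0 := fun x => by
    simp [hH', map_sub, map_add, map_smul, hea, hew, hfa, hfw]
  have h3 : InM M (-H' : V →ₗ[F] V) := (h2.inv hkill').congr fun x => rfl
  have h4 := h1.add h3 fun x => by rw [LinearMap.neg_apply, map_neg, hkill, neg_zero]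
  refine ⟨(s * s - s) • a, f, ⟨by rw [map_smul, hfa, smul_zero], h4.congr fun x => ?_⟩, ?_, ?_⟩
  · rw [LinearMap.neg_apply, hH, hH']
    module
  · exact smul_ne_zero (fun e0 => hs1 (mul_left_cancel₀ hs0 (by rw [mul_one]; exact sub_eq_zero.1 e0)))
      S.ne
  · intro e0
    have h5 := LinearMap.congr_fun e0 (μ₁ • d)
    rw [hf, map_smul, hφd, smul_eq_mul, mul_one, S.norm, LinearMap.zero_apply] at h5
    exact one_ne_zero h5

/-- The two pairings differ on the hyperplane. -/
theorem exists_tr_diff (hdiff : ∃ μ : K, α μ = 0 ∧ ∃ x, α (μ * φ x) ≠ α (μ * ψ (h.symm x))) :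
    ∃ (p : V) (f : V →ₗ[F] F), Tr M p f ∧ p ≠ 0 ∧ f ≠ 0 := by
  have hl := plane_line S hψa hψd
  have hplane := inM_plane hM S hφa hφd hψa hψd hd
  obtain ⟨μ, hμ, x₀, hx₀⟩ := hdiff
  have hμ0 : μ ≠ 0 := fun e => hx₀ (by rw [e, zero_mul, zero_mul])
  obtain ⟨f, hf⟩ : ∃ f : V →ₗ[F] F, ∀ x, f x = α (μ * φ x) - α (μ * ψ (h.symm x)) :=
    ⟨α ∘ₗ LinearMap.mulLeft F μ ∘ₗ φ.restrictScalars F -
      α ∘ₗ LinearMap.mulLeft F μ ∘ₗ ψ.restrictScalars F ∘ₗ h.symm.toLinearMap, fun x => rfl⟩
  refine ⟨μ • a, f, ⟨?_, (hplane μ μ hμ).congr fun x => ?_⟩, smul_ne_zero hμ0 S.ne, fun e => ?_⟩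
  · rw [hf, map_smul φ, hφa, smul_zero, hl, hμ, zero_smul, mul_zero, map_zero, sub_self]
  · rw [hf, hμ, zero_smul, zero_smul, add_zero, add_zero, sub_smul]
  · exact hx₀ (sub_eq_zero.1 ((hf x₀).symm.trans (LinearMap.congr_fun e x₀)))

/-- Two elements in the base field and a prime degree at least three. -/
theorem exists_tr_two (hq : ∀ c : F, c = 0 ∨ c = 1) (hr : (finrank F K).Prime)
    (hr3 : 3 ≤ finrank F K) :
    ∃ (p : V) (f : V →ₗ[F] F), Tr M p f ∧ p ≠ 0 ∧ f ≠ 0 := by
  classical
  have hl := plane_line S hψa hψd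
  have hplane := inM_plane hM S hφa hφd hψa hψd hd
  by_cases hdiff : ∃ μ : K, α μ = 0 ∧ ∃ x, α (μ * φ x) ≠ α (μ * ψ (h.symm x))
  · exact exists_tr_diff hM S hφa hφd hψa hψd hd hdiff
  push Not at hdiff
  -- the maps on the line carried by root elements
  obtain ⟨Om, hOm⟩ : ∃ Om : (K →ₗ[F] K) → Prop,
      ∀ T, Om T ↔ InM M fun x => T (φ x) • a := ⟨_, fun T => Iff.rfl⟩
  have hlin : ∀ T : K →ₗ[F] K, ∃ N : V →ₗ[F] V, (∀ x, N x = T (φ x) • a) ∧
      ∀ x, φ (N x) = 0 := fun T =>
    ⟨(LinearMap.toSpanSingleton K V a).restrictScalars F ∘ₗ T ∘ₗ φ.restrictScalars F, fun x => rfl,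
      fun x => show φ (T (φ x) • a) = 0 by rw [map_smul, hφa, smul_zero]⟩
  have hzero : Om 0 := (hOm 0).2 ⟨1, M.one_mem, fun x => by simp⟩
  have hadd : ∀ T T', Om T → Om T' → Om (T + T') := fun T T' h1 h2 => by
    rw [hOm] at h1 h2 ⊢
    obtain ⟨N, hN, -⟩ := hlin T
    obtain ⟨N', hN', hN'φ⟩ := hlin T'
    refine ((h1.congr (N' := N) fun x => (hN x).symm).add (h2.congr (N' := N') fun x => (hN' x).symm)
      fun x => by rw [hN, hN'φ, map_zero, zero_smul]).congr fun x => ?_
    rw [hN, hN', LinearMap.add_apply, add_smul]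
  have hneg : ∀ T, Om T → Om (-T) := fun T h1 => by
    rw [hOm] at h1 ⊢
    obtain ⟨N, hN, hNφ⟩ := hlin T
    refine ((h1.congr (N' := N) fun x => (hN x).symm).inv fun x => by
      rw [hN, hNφ, map_zero, zero_smul]).congr fun x => ?_
    rw [hN, LinearMap.neg_apply, neg_smul]
  -- conjugation by diagonal elements
  obtain ⟨χ, hχa, hχd⟩ := exists_dual_pair S.off S.ne 1 0
  have hconj : ∀ (b c : K) (T : K →ₗ[F] K), b ≠ 0 → c ≠ 0 → Om T →
      Om (LinearMap.mulLeft F c ∘ₗ T ∘ₗ LinearMap.mulLeft F b) := fun b c T hb hc h1 => by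
    rw [hOm] at h1 ⊢
    obtain ⟨g, hg, hgs, hga, -⟩ := hM.exists_diag hq hχa hb hc
    refine (h1.conj hg).congr fun x => ?_
    have e1 : φ (g.symm x) = b * φ x := by
      rw [hgs, map_add, map_smul φ, map_smul φ, hφa, smul_zero, add_zero, smul_eq_mul]
    rw [e1, hga]
    rfl
  -- the generator
  obtain ⟨ν, hν, hνF⟩ : ∃ ν : K, α ν = 0 ∧ ν ∉ (⊥ : Subalgebra F K) := by
    by_contra hc
    push Not at hc
    have hle : LinearMap.ker α ≤ Submodule.span F {(1 : K)} := fun x hx => by
      obtain ⟨r, hr'⟩ := Algebra.mem_bot.1 (hc x hx)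
      exact Submodule.mem_span_singleton.2 ⟨r, by rw [← hr', Algebra.smul_def, mul_one]⟩
    have h1 := (Submodule.finrank_mono hle).trans (finrank_span_singleton (one_ne_zero (α := K))).le
    have h2 := LinearMap.finrank_range_add_finrank_ker α
    have h3 := (LinearMap.range α).finrank_le
    rw [finrank_self] at h3
    omega
  have hT0 : Om (simp1 α ν 1 - simp1 α 1 ν) := (hOm _).2 <| (hplane ν 1 S.one).congr fun x => by
    rw [hν, zero_smul, zero_smul, add_zero, add_zero, one_mul, one_smul, ← hdiff ν hν x,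
      LinearMap.sub_apply, simp1_apply, simp1_apply, one_mul, sub_smul, smul_assoc, smul_assoc,
      one_smul]
  -- the multipliers
  set G : Submodule F K :=
    { carrier := {y | ∀ u v : K, Om (simp1 α (y * u) v - simp1 α u (y * v))}
      add_mem' := fun {y z} hy hz u v => by
        have h1 := hadd _ _ (hy u v) (hz u v)
        convert h1 using 1
        refine LinearMap.ext fun j => ?_
        simp only [LinearMap.add_apply, LinearMap.sub_apply, simp1_apply, add_mul, map_add, smul_add,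
          add_smul]
        abel
      zero_mem' := fun u v => by
        convert hzero using 1
        refine LinearMap.ext fun j => ?_
        simp [simp1_apply]
      smul_mem' := fun r y hy u v => by
        have h1 := hy (r • u) v
        convert h1 using 1
        refine LinearMap.ext fun j => ?_
        simp only [LinearMap.sub_apply, simp1_apply, smul_mul_assoc, mul_smul_comm, map_smul,
          smul_assoc, smul_comm r]
      } with hG
  have h1G : (1 : K) ∈ G := fun u v => by
    rw [one_mul, one_mul, sub_self]; exact hzero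
  have hmulG : ∀ y z, y ∈ G → z ∈ G → y * z ∈ G := fun y z hy hz u v => by
    have h1 := hadd _ _ (hy (z * u) v) (hz u (y * v))
    convert h1 using 1
    refine LinearMap.ext fun j => ?_
    simp only [LinearMap.add_apply, LinearMap.sub_apply, simp1_apply, mul_assoc, mul_left_comm z y]
    abel
  have hνG : ν ∈ G := fun u v => by
    by_cases hu : u = 0
    · convert hzero using 1
      refine LinearMap.ext fun j => ?_
      simp [simp1_apply, hu]
    by_cases hv : v = 0
    · convert hzero using 1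
      refine LinearMap.ext fun j => ?_
      simp [simp1_apply, hv]
    have h1 := hconj v u _ hv hu hT0
    convert h1 using 1
    refine LinearMap.ext fun j => ?_
    simp only [LinearMap.sub_apply, LinearMap.comp_apply, LinearMap.mulLeft_apply, simp1_apply,
      one_mul, mul_sub, mul_smul_comm, mul_one, mul_assoc, mul_comm ν u]
  haveI := Subalgebra.isSimpleOrder_of_finrank_prime F K hr
  have hall : ∀ y u v : K, Om (simp1 α (y * u) v - simp1 α u (y * v)) := by
    intro y
    rcases eq_bot_or_eq_top (G.toSubalgebra h1G hmulG) with h1 | h1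
    · exact absurd (show ν ∈ G.toSubalgebra h1G hmulG from hνG) (by rw [h1]; exact hνF)
    · exact (show y ∈ G.toSubalgebra h1G hmulG by rw [h1]; exact Algebra.mem_top)
  -- the trace
  have hα : α ≠ 0 := fun e => one_ne_zero (α := F) (by rw [← S.norm, e]; rfl)
  set bs := Module.finBasis F K
  choose es hes using fun i => exists_rep hα (bs.coord i)
  obtain ⟨c, hc⟩ : ∃ c, c = ∑ i, bs i * es i := ⟨_, rfl⟩
  have hid : ∑ i, simp1 α (bs i) (es i) = LinearMap.id := LinearMap.ext fun j => by
    rw [LinearMap.sum_apply]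
    simp only [simp1_apply, mul_comm (es _) j, hes, Basis.coord_apply]
    exact bs.sum_repr j
  have hsum : ∀ s : Finset (Fin (finrank F K)),
      Om (∑ i ∈ s, (simp1 α (bs i) (es i) - simp1 α 1 (bs i * es i))) := fun s => by
    induction s using Finset.induction_on with
    | empty => simpa using hzero
    | insert i s his ih =>
      rw [Finset.sum_insert his]
      refine hadd _ _ ?_ ih
      have h1 := hall (bs i) 1 (es i)
      rwa [mul_one] at h1
  have hid' : Om LinearMap.id := (hOm _).2 (hM.root hφa)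
  have hc1 : Om (simp1 α 1 c) := by
    have h1 := hadd _ _ hid' (hneg _ (hsum Finset.univ))
    convert h1 using 1
    refine LinearMap.ext fun j => ?_
    rw [Finset.sum_sub_distrib, hid, neg_sub, add_comm, sub_add_cancel, LinearMap.sum_apply, hc]
    simp only [simp1_apply, Finset.sum_mul, map_sum, Finset.sum_smul]
  haveI : Finite F := Finite.of_injective _ (algebraMap F K).injective
  have hc0 : c ≠ 0 := fun e => by
    refine Algebra.trace_ne_zero F K (LinearMap.ext fun z => ?_)
    rw [Algebra.trace_eq_matrix_trace bs, Matrix.trace]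
    simp only [Matrix.diag_apply, Algebra.leftMulMatrix_eq_repr_mul, ← Basis.coord_apply, ← hes,
      ← map_sum, mul_assoc, ← Finset.mul_sum, ← hc, e, mul_zero, map_zero, LinearMap.zero_apply]
  obtain ⟨f, hf⟩ : ∃ f : V →ₗ[F] F, ∀ x, f x = α (c * φ x) :=
    ⟨α ∘ₗ LinearMap.mulLeft F c ∘ₗ φ.restrictScalars F, fun x => rfl⟩
  refine ⟨a, f, ⟨by rw [hf, hφa, mul_zero, map_zero], ((hOm _).1 hc1).congr fun x => ?_⟩, S.ne,
    fun e => ?_⟩
  · rw [simp1_apply, hf, smul_assoc, one_smul]
  · have h5 := LinearMap.congr_fun e ((μ₁ / c) • d)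
    rw [hf, map_smul φ, hφd, smul_eq_mul, mul_one, mul_div_cancel₀ _ hc0, S.norm,
      LinearMap.zero_apply] at h5
    exact one_ne_zero h5

end CfsgLib.LinExt
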