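import Cfsg.Agent.Lib.Classical.LinExtField.Plane

set_option autoImplicit false
set_option linter.unusedSectionVars false

/-!
Two dimensions over the field of four elements: a word in explicit elements is a transvection.
-/

namespace CfsgLib.LinExt

open Module

namespace Four

/-- Addition in the model `0, 1, ω, ω + 1`. -/
def add (i j : Fin 4) : Fin 4 := ![![0, 1, 2, 3], ![1, 0, 3, 2], ![2, 3, 0, 1], ![3, 2, 1, 0]] i j

/-- Multiplication in the model. -/
def mul (i j : Fin 4) : Fin 4 := ![![0, 0, 0, 0], ![0, 1, 2, 3], ![0, 2, 3, 1], ![0, 3, 1, 2]] i j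

/-- The coordinate at `ω`. -/
def al (i : Fin 4) : Fin 4 := ![0, 0, 1, 1] i

/-- The semilinear coordinate of the twisted root element. -/
def zd (z j : Fin 4) : Fin 4 := ![0, 1, z, add z 1] j

def nn (z l : Fin 4) (s : Fin 4 × Fin 4) : Fin 4 × Fin 4 :=
  (add s.1 (mul l (add (al s.1) (zd z s.2))), add s.2 (al (mul l (add (al s.1) (zd z s.2)))))

def rr (l : Fin 4) (s : Fin 4 × Fin 4) : Fin 4 × Fin 4 := (add s.1 (mul l s.2), s.2)

def ll (l : Fin 4) (s : Fin 4 × Fin 4) : Fin 4 × Fin 4 := (s.1, add s.2 (mul l s.1))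

def dd (i j : Fin 4) (s : Fin 4 × Fin 4) : Fin 4 × Fin 4 := (mul i s.1, mul j s.2)

theorem word_two : ∀ s, nn 2 1 (rr 1 (dd 1 2 (nn 2 1 (dd 1 2 s)))) =
    (add s.1 (if 2 ≤ add (mul 0 s.1) (mul 2 s.2) then 3 else 0),
      add s.2 (if 2 ≤ add (mul 0 s.1) (mul 2 s.2) then 0 else 0)) := by
  decide

theorem word_three : ∀ s, ll 1 (nn 3 2 (dd 3 3 (nn 3 3 s))) =
    (add s.1 (if 2 ≤ add (mul 1 s.1) (mul 0 s.2) then 0 else 0),
      add s.2 (if 2 ≤ add (mul 1 s.1) (mul 0 s.2) then 1 else 0)) := by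
  decide

end Four

variable {F K V : Type*} [Field F] [Field K] [Algebra F K] [AddCommGroup V] [Module F V]
  [Module K V] [IsScalarTower F K V] {M : Subgroup (V ≃ₗ[F] V)}

variable (hM : Over K M) [Finite K] [Module.Finite F K] [Module.Finite K V]
include hM

variable {h : V ≃ₗ[F] V} {a d d' : V} {α : K →ₗ[F] F} {μ₁ : K} (S : Shear M h a d d' α μ₁)
  {φ ψ : V →ₗ[K] K} (hφa : φ a = 0) (hφd : φ d = 1) (hψa : ψ a = 0) (hψd : ψ d' = -1)
  (hd : d = h (μ₁ • a) - μ₁ • a)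
include S hφa hφd hψa hψd hd

/-- The field of four elements. -/
theorem exists_tr_four (hq : ∀ c : F, c = 0 ∨ c = 1) (hr : finrank F K = 2)
    {χ : V →ₗ[K] K} (hχa : χ a = 1) (hχd : χ d = 0)
    (hgen : ∀ x : V, x = χ x • a + φ x • d) :
    ∃ (p : V) (f : V →ₗ[F] F), Tr M p f ∧ p ≠ 0 ∧ f ≠ 0 := by
  classical
  by_cases hdiff : ∃ μ : K, α μ = 0 ∧ ∃ x, α (μ * φ x) ≠ α (μ * ψ (h.symm x))
  · exact exists_tr_diff hM S hφa hφd hψa hψd hd hdiff
  push Not at hdiff
  have hl := plane_line S hψa hψd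
  have hzd := plane_d S hψa hψd hd
  -- characteristic two and the elements
  have h2F : (1 : F) + 1 = 0 := (hq _).resolve_right fun e => one_ne_zero (add_right_cancel (e.trans (zero_add 1).symm))
  have h2 : (1 : K) + 1 = 0 := by rw [← map_one (algebraMap F K), ← map_add, h2F, map_zero]
  have hadd0 : ∀ k : K, k + k = 0 := fun k => by
    rw [← one_mul k, ← add_mul, h2, zero_mul]
  have hneg : ∀ k : K, -k = k := fun k => neg_eq_of_add_eq_zero_left (hadd0 k)
  obtain ⟨e, he⟩ : ∃ e : Fin 4 → K, e = ![0, 1, μ₁, μ₁ + 1] := ⟨_, rfl⟩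
  have hαe : ∀ i, α (e i) = if 2 ≤ i then 1 else 0 := fun i => by
    rw [he]; fin_cases i <;> simp [S.one, S.norm]
  have hker : LinearMap.ker α = Submodule.span F {(1 : K)} := by
    refine (Submodule.eq_of_le_of_finrank_le ?_ ?_).symm
    · rw [Submodule.span_singleton_le_iff_mem, LinearMap.mem_ker]; exact S.one
    · rw [finrank_span_singleton (one_ne_zero (α := K))]
      have h3 : finrank F (LinearMap.ker α) < finrank F K := Submodule.finrank_lt fun e => by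
        have h4 : μ₁ ∈ LinearMap.ker α := e ▸ Submodule.mem_top
        rw [LinearMap.mem_ker, S.norm] at h4
        exact one_ne_zero h4
      omega
  have hsurj : ∀ k : K, ∃ i, e i = k := fun k => by
    have h3 : k - α k • μ₁ ∈ LinearMap.ker α := by
      rw [LinearMap.mem_ker, map_sub, map_smul, S.norm, smul_eq_mul, mul_one, sub_self]
    rw [hker, Submodule.mem_span_singleton] at h3
    obtain ⟨r, hr'⟩ := h3
    have hk : k = r • (1 : K) + α k • μ₁ := by rw [hr', sub_add_cancel]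
    rcases hq r with hr0 | hr0 <;> rcases hq (α k) with hk0 | hk0 <;> rw [hr0, hk0] at hk
    · exact ⟨0, by rw [hk, he]; simp⟩
    · exact ⟨2, by rw [hk, he]; simp⟩
    · exact ⟨1, by rw [hk, he]; simp⟩
    · exact ⟨3, by rw [hk, he]; simp [add_comm]⟩
  have hμ : μ₁ * μ₁ = μ₁ + 1 := by
    obtain ⟨i, hi⟩ := hsurj (μ₁ * μ₁)
    have h0 : μ₁ ≠ 0 := fun e0 => zero_ne_one (by rw [← S.norm, e0, map_zero] : (0 : F) = 1)
    have h1 : μ₁ ≠ 1 := fun e0 => zero_ne_one (by rw [← S.norm, e0, S.one] : (0 : F) = 1)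
    rw [he] at hi
    fin_cases i <;> simp at hi
    · exact absurd hi h0
    · exfalso
      have h5 : (μ₁ + 1) * (μ₁ + 1) = 0 := by
        linear_combination -hi + μ₁ * h2 + (1 : K) * h2
      exact h1 ((eq_neg_of_add_eq_zero_left (mul_self_eq_zero.1 h5)).trans (hneg 1))
    · exfalso
      grind
    · exact hi.symm
  have heA : ∀ i j, e (Four.add i j) = e i + e j := fun i j => by
    rw [he]
    fin_cases i <;> fin_cases j <;> simp [Four.add] <;> grind
  have heM : ∀ i j, e (Four.mul i j) = e i * e j := fun i j => by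
    rw [he]
    fin_cases i <;> fin_cases j <;> simp [Four.mul] <;> grind
  have heal : ∀ i, e (Four.al i) = α (e i) • (1 : K) := fun i => by
    rw [hαe, he]; fin_cases i <;> simp [Four.al]
  have he1 : e 1 = 1 := by rw [he]; rfl
  -- the value at `μ₁ • d`
  obtain ⟨z, hz⟩ := hsurj (ψ (h.symm (μ₁ • d)))
  have hz23 : z = 2 ∨ z = 3 := by
    have h4 := hdiff 1 S.one (μ₁ • d)
    rw [one_mul, one_mul, map_smul φ, hφd, smul_eq_mul, mul_one, S.norm, ← hz, hαe] at h4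
    fin_cases z <;> simp at h4 ⊢
  have hZd : ∀ j, e (Four.zd z j) = ψ (h.symm (e j • d)) := fun j => by
    fin_cases j
    · simp [Four.zd, he]
    · rw [show Four.zd z ⟨1, _⟩ = 1 from rfl, show e ⟨1, _⟩ = e 1 from rfl, he1, one_smul, hzd, hneg]
    · rw [show Four.zd z ⟨2, _⟩ = z from rfl, hz, he]; rfl
    · rw [show Four.zd z ⟨3, _⟩ = Four.add z 1 from rfl, heA, hz, he1, he]
      show _ = ψ (h.symm ((μ₁ + 1) • d))
      rw [add_smul, map_add, map_add, one_smul, hzd, hneg]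
  -- the coordinates
  obtain ⟨E, hE⟩ : ∃ E : Fin 4 × Fin 4 → V, ∀ s, E s = e s.1 • a + e s.2 • d := ⟨_, fun s => rfl⟩
  have hEsurj : ∀ x, ∃ s, E s = x := fun x => by
    obtain ⟨i, hi⟩ := hsurj (χ x)
    obtain ⟨j, hj⟩ := hsurj (φ x)
    exact ⟨(i, j), by rw [hE, hi, hj, ← hgen]⟩
  have hEφ : ∀ s, φ (E s) = e s.2 := fun s => by
    rw [hE, map_add, map_smul, map_smul, hφa, hφd, smul_zero, zero_add, smul_eq_mul, mul_one]
  have hEχ : ∀ s, χ (E s) = e s.1 := fun s => by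
    rw [hE, map_add, map_smul, map_smul, hχa, hχd, smul_zero, add_zero, smul_eq_mul, mul_one]
  let Rl : (Fin 4 × Fin 4 → Fin 4 × Fin 4) → Prop := fun f => ∃ g ∈ M, ∀ s, g (E s) = E (f s)
  have hcomp : ∀ f f', Rl f → Rl f' → Rl (fun s => f (f' s)) := fun f f' ⟨g, hg, hgE⟩ ⟨g', hg', hgE'⟩ =>
    ⟨g * g', M.mul_mem hg hg', fun s => by rw [LinearEquiv.mul_apply, hgE', hgE]⟩
  have hnn : ∀ l, Rl (Four.nn z l) := fun l => by
    obtain ⟨g, hg, hgx⟩ := inM_conj hM S hψa (e l)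
    refine ⟨g, hg, fun s => ?_⟩
    have hZ : ψ (h.symm (E s)) = e (Four.add (Four.al s.1) (Four.zd z s.2)) := by
      rw [heA, heal, hZd, hE, map_add, map_add, hl]
    rw [hgx]; dsimp only; rw [hZ, ← heM, hE (Four.nn z l s), hE s]
    simp only [Four.nn, heA, heal, add_smul, smul_assoc, one_smul]
    abel
  have hrr : ∀ l, Rl (Four.rr l) := fun l => by
    obtain ⟨g, hg, hgx⟩ := hM.root (φ := e l • φ) (c := a) (by simp [hφa])
    refine ⟨g, hg, fun s => ?_⟩
    rw [hgx]; dsimp only; rw [LinearMap.smul_apply, hEφ, smul_eq_mul, ← heM, hE (Four.rr l s), hE s]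
    simp only [Four.rr, heA, add_smul]
    abel
  have hll : ∀ l, Rl (Four.ll l) := fun l => by
    obtain ⟨g, hg, hgx⟩ := hM.root (φ := e l • χ) (c := d) (by simp [hχd])
    refine ⟨g, hg, fun s => ?_⟩
    rw [hgx]; dsimp only; rw [LinearMap.smul_apply, hEχ, smul_eq_mul, ← heM, hE (Four.ll l s), hE s]
    simp only [Four.ll, heA, add_smul]
    abel
  have hdd : ∀ i j, e i ≠ 0 → e j ≠ 0 → Rl (Four.dd i j) := fun i j hi hj => by
    obtain ⟨g, hg, -, -, hgx⟩ := hM.exists_diag hq hχa (inv_ne_zero hj) hi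
    refine ⟨g, hg, fun s => ?_⟩
    rw [hgx, inv_inv, hEχ, hE (Four.dd i j s), hE s]
    simp only [Four.dd, heM]
    module
  -- read off the transvection
  have hfin : ∀ (f : Fin 4 × Fin 4 → Fin 4 × Fin 4) (c₁ c₂ p₁ p₂ : Fin 4), Rl f →
      (∀ s, f s = (Four.add s.1 (if 2 ≤ Four.add (Four.mul c₁ s.1) (Four.mul c₂ s.2) then p₁ else 0),
        Four.add s.2 (if 2 ≤ Four.add (Four.mul c₁ s.1) (Four.mul c₂ s.2) then p₂ else 0))) →
      α (e c₁ * e p₁ + e c₂ * e p₂) = 0 → (e p₁ ≠ 0 ∨ e p₂ ≠ 0) → (e c₁ ≠ 0 ∨ e c₂ ≠ 0) →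
      ∃ (p : V) (f : V →ₗ[F] F), Tr M p f ∧ p ≠ 0 ∧ f ≠ 0 := by
    intro w c₁ c₂ p₁ p₂ ⟨g, hg, hgE⟩ hw h0 hp hc
    obtain ⟨f, hf⟩ : ∃ f : V →ₗ[F] F, ∀ x, f x = α (e c₁ * χ x + e c₂ * φ x) :=
      ⟨α ∘ₗ (e c₁ • χ + e c₂ • φ).restrictScalars F, fun x => rfl⟩
    refine ⟨E (p₁, p₂), f, ⟨by rw [hf, hEχ, hEφ]; exact h0, g, hg, fun x => ?_⟩, fun e0 => ?_, fun e0 => ?_⟩
    · obtain ⟨s, rfl⟩ := hEsurj x
      rw [hgE, hw]; dsimp only; rw [hf, hEχ, hEφ, ← heM, ← heM, ← heA, hαe, hE, hE s, hE (p₁, p₂)]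
      dsimp only
      split_ifs
      · rw [heA, heA, one_smul, add_smul, add_smul]; abel
      · rw [heA, heA, show e 0 = 0 by rw [he]; rfl, zero_smul, add_zero, add_zero, add_zero]
    · rcases hp with h5 | h5
      · exact h5 (by rw [← hEχ (p₁, p₂), e0, map_zero])
      · exact h5 (by rw [← hEφ (p₁, p₂), e0, map_zero])
    · rcases hc with h5 | h5
      · have h6 := LinearMap.congr_fun e0 ((μ₁ / e c₁) • a)
        rw [hf, map_smul χ, map_smul φ, hχa, hφa, smul_zero, mul_zero, add_zero, smul_eq_mul, mul_one,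
          mul_div_cancel₀ _ h5, S.norm] at h6
        exact one_ne_zero h6
      · have h6 := LinearMap.congr_fun e0 ((μ₁ / e c₂) • d)
        rw [hf, map_smul χ, map_smul φ, hχd, hφd, smul_zero, mul_zero, zero_add, smul_eq_mul, mul_one,
          mul_div_cancel₀ _ h5, S.norm] at h6
        exact one_ne_zero h6
  have hne : ∀ i, i ≠ 0 → e i ≠ 0 := fun i hi e0 => by
    have h5 : ∀ i : Fin 4, i ≠ 0 → ∃ j, Four.mul i j = 1 := by decide
    obtain ⟨j, hj⟩ := h5 i hi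
    have h6 := heM i j
    rw [hj, he1, e0, zero_mul] at h6
    exact one_ne_zero h6
  have hαv : ∀ i j k l, Four.al (Four.add (Four.mul i j) (Four.mul k l)) = 0 →
      α (e i * e j + e k * e l) = 0 := fun i j k l h5 => by
    rw [← heM, ← heM, ← heA]
    have h6 := heal (Four.add (Four.mul i j) (Four.mul k l))
    rw [h5, show e 0 = 0 by rw [he]; rfl, eq_comm, smul_eq_zero] at h6
    exact h6.resolve_right one_ne_zero
  rcases hz23 with rfl | rfl
  · exact hfin _ 0 2 3 0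
      (hcomp _ _ (hnn 1) (hcomp _ _ (hrr 1) (hcomp _ _ (hdd 1 2 (hne _ (by decide)) (hne _ (by decide)))
        (hcomp _ _ (hnn 1) (hdd 1 2 (hne _ (by decide)) (hne _ (by decide)))))))
      Four.word_two (hαv _ _ _ _ rfl) (Or.inl (hne _ (by decide))) (Or.inr (hne _ (by decide)))
  · exact hfin _ 1 0 0 1
      (hcomp _ _ (hll 1) (hcomp _ _ (hnn 2) (hcomp _ _ (hdd 3 3 (hne _ (by decide)) (hne _ (by decide)))
        (hnn 3))))
      Four.word_three (hαv _ _ _ _ rfl) (Or.inr (hne _ (by decide))) (Or.inl (hne _ (by decide)))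

end CfsgLib.LinExt
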