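import Cfsg.Agent.Lib.Classical.LinExtField.Lower

set_option autoImplicit false
set_option linter.unusedSectionVars false

/-!
From an element fixing a hyperplane of a line over `K` pointwise to a transvection over `F`.
-/

namespace CfsgLib.LinExt

open Module

variable {F K V : Type*} [Field F] [Field K] [Algebra F K] [AddCommGroup V] [Module F V]
  [Module K V] [IsScalarTower F K V] {M : Subgroup (V ≃ₗ[F] V)}

/-- The commutator of two square-zero elements. -/
theorem InM.commutator {N N' : V →ₗ[F] V} (h : InM M N) (h' : InM M N') (h0 : ∀ x, N (N x) = 0)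
    (h0' : ∀ x, N' (N' x) = 0) :
    InM M fun x => N (N' x) - N' (N x) + N' (N (N' x)) - N (N' (N x)) + N (N' (N (N' x))) := by
  obtain ⟨a, ha, hax⟩ := h
  obtain ⟨b, hb, hbx⟩ := h'
  refine ⟨a * b * a⁻¹ * b⁻¹, M.mul_mem (M.mul_mem (M.mul_mem ha hb) (M.inv_mem ha)) (M.inv_mem hb),
    fun x => ?_⟩
  have ha' : ∀ y, a⁻¹ y = y - N y := fun y => by
    show a.symm y = _
    refine a.injective ?_
    rw [a.apply_symm_apply, hax, map_sub, h0, sub_zero, sub_add_cancel]
  have hb' : ∀ y, b⁻¹ y = y - N' y := fun y => by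
    show b.symm y = _
    refine b.injective ?_
    rw [b.apply_symm_apply, hbx, map_sub, h0', sub_zero, sub_add_cancel]
  simp only [LinearEquiv.mul_apply, ha', hb', hax, hbx, map_sub, map_add, h0, h0', map_zero, sub_zero,
    add_zero, zero_add]
  abel

/-- A hyperplane of the line of `a` is fixed and the rest is pushed along `d`. -/
structure Shear (M : Subgroup (V ≃ₗ[F] V)) (h : V ≃ₗ[F] V) (a d d' : V) (α : K →ₗ[F] F) (μ₁ : K) :
    Prop where
  mem : h ∈ M
  ne : a ≠ 0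
  one : α 1 = 0
  norm : α μ₁ = 1
  apply : ∀ μ : K, h (μ • a) = μ • a + α μ • d
  symm_apply : ∀ μ : K, h.symm (μ • a) = μ • a - α μ • d'
  off : ∀ k : K, d ≠ k • a
  off' : ∀ k : K, d' ≠ k • a

theorem exists_shear [Module.Finite F K] {h : V ≃ₗ[F] V} (hh : h ∈ M) {a : V} (ha : a ≠ 0)
    {L : Submodule F K} {μ₁ : K} (h1 : (1 : K) ∈ L) (hL : finrank F L + 1 = finrank F K)
    (hfix : ∀ μ ∈ L, h (μ • a) = μ • a) (hoff : ∀ k : K, h (μ₁ • a) ≠ k • a) :
    ∃ α : K →ₗ[F] F, Shear M h a (h (μ₁ • a) - μ₁ • a) (μ₁ • a - h.symm (μ₁ • a)) α μ₁ := by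
  have hμ₁ : μ₁ ∉ L := fun hm => hoff μ₁ (hfix μ₁ hm)
  obtain ⟨f, hf, hLf⟩ := Submodule.exists_le_ker_of_notMem hμ₁
  obtain ⟨α, hα⟩ : ∃ α, α = (f μ₁)⁻¹ • f := ⟨_, rfl⟩
  have hαμ : α μ₁ = 1 := by rw [hα, LinearMap.smul_apply, smul_eq_mul, inv_mul_cancel₀ hf]
  have hker : L ≤ LinearMap.ker α := fun x hx => by
    rw [LinearMap.mem_ker, hα, LinearMap.smul_apply, show f x = 0 from hLf hx, smul_zero]
  have hLker : LinearMap.ker α = L := (Submodule.eq_of_le_of_finrank_le hker (by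
    have h3 : finrank F (LinearMap.ker α) < finrank F K :=
      Submodule.finrank_lt fun e => by
        have h4 : μ₁ ∈ LinearMap.ker α := e ▸ Submodule.mem_top
        rw [LinearMap.mem_ker, hαμ] at h4
        exact one_ne_zero h4
    omega)).symm
  have happly : ∀ μ : K, h (μ • a) = μ • a + α μ • (h (μ₁ • a) - μ₁ • a) := fun μ => by
    have hm : μ - α μ • μ₁ ∈ L := by
      rw [← hLker, LinearMap.mem_ker, map_sub, map_smul, hαμ, smul_eq_mul, mul_one, sub_self]
    have h3 := hfix _ hm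
    rw [sub_smul, map_sub, smul_assoc, map_smul h (α μ), sub_eq_iff_eq_add] at h3
    rw [h3, smul_sub]
    abel
  have hsymm : ∀ μ : K, h.symm (μ • a) = μ • a - α μ • (μ₁ • a - h.symm (μ₁ • a)) := fun μ => by
    refine h.injective ?_
    rw [h.apply_symm_apply, map_sub, map_smul h (α μ), map_sub, h.apply_symm_apply, happly]
    abel
  refine ⟨α, hh, ha, LinearMap.mem_ker.1 (hker h1), hαμ, happly, hsymm, fun k hk => hoff (k + μ₁)
    (by rw [add_smul, ← hk, sub_add_cancel]), fun k hk => ?_⟩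
  obtain ⟨ν, hν⟩ : ∃ ν : K, h.symm (μ₁ • a) = ν • a := ⟨μ₁ - k, by rw [sub_smul, ← hk, sub_sub_cancel]⟩
  have e : h (ν • a) = μ₁ • a := by rw [← hν, h.apply_symm_apply]
  rw [happly] at e
  by_cases hν0 : α ν = 0
  · rw [hν0, zero_smul, add_zero] at e
    rw [smul_left_injective K ha e, hαμ] at hν0
    exact one_ne_zero hν0
  · refine hoff ((algebraMap F K (α ν))⁻¹ * (μ₁ - ν) + μ₁) ?_
    have e2 : h (μ₁ • a) - μ₁ • a = (α ν)⁻¹ • ((μ₁ - ν) • a) := by
      rw [sub_smul, ← eq_sub_of_add_eq' e, inv_smul_smul₀ hν0]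
    rw [add_smul, ← map_inv₀, mul_smul, algebraMap_smul, ← e2, sub_add_cancel]

variable (hM : Over K M) [Finite K] [Module.Finite F K] [Module.Finite K V]
include hM

variable {h : V ≃ₗ[F] V} {a d d' : V} {α : K →ₗ[F] F} {μ₁ : K} (S : Shear M h a d d' α μ₁)
include S

/-- The conjugate of a root element with centre on the line. -/
theorem inM_conj {ψ : V →ₗ[K] K} (hψ : ψ a = 0) (lam : K) :
    InM M fun x => (lam * ψ (h.symm x)) • a + α (lam * ψ (h.symm x)) • d := by
  refine ((hM.root (φ := lam • ψ) (c := a) (by simp [hψ])).conj S.mem).congr fun x => ?_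
  rw [LinearMap.smul_apply, smul_eq_mul, S.apply]

omit hM in
theorem z_line {ψ : V →ₗ[K] K} (hψ : ψ a = 0) (ν : K) :
    ψ (h.symm (ν • a)) = -(α ν • ψ d') := by
  rw [S.symm_apply, map_sub, map_smul, hψ, smul_zero, LinearMap.map_smul_of_tower, zero_sub]

omit hM in
theorem z_d {ψ : V →ₗ[K] K} (hψ : ψ a = 0) (hd : d = h (μ₁ • a) - μ₁ • a) :
    ψ (h.symm d) = ψ d' := by
  rw [hd, map_sub, h.symm_apply_apply, map_sub, z_line S hψ, S.norm, one_smul, map_smul, hψ,
    smul_zero, zero_sub, neg_neg]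

/-- At least three dimensions. -/
theorem exists_tr_three (hdim : 3 ≤ finrank K V) (hd : d = h (μ₁ • a) - μ₁ • a) :
    ∃ (p : V) (f : V →ₗ[F] F), Tr M p f ∧ p ≠ 0 ∧ f ≠ 0 := by
  classical
  obtain ⟨φ, hφa, hφd⟩ := exists_dual_pair S.off S.ne 0 1
  obtain ⟨w, hw⟩ : ∃ w, w ∉ Submodule.span K {a, d'} := by
    by_contra hc
    push Not at hc
    have h1 := finrank_span_le_card (R := K) ({a, d'} : Set V)
    rw [Submodule.eq_top_iff'.2 hc, finrank_top, Set.toFinset_insert, Set.toFinset_singleton] at h1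
    have := Finset.card_le_two (a := a) (b := d')
    omega
  obtain ⟨ψ, hψw, hψk⟩ := Submodule.exists_le_ker_of_notMem hw
  have hψa : ψ a = 0 := hψk (Submodule.subset_span (by simp))
  have hψd : ψ d' = 0 := hψk (Submodule.subset_span (by simp))
  obtain ⟨N, hN⟩ : ∃ N : V →ₗ[F] V, ∀ x, N x = ψ (h.symm x) • a + α (ψ (h.symm x)) • d :=
    ⟨((LinearMap.toSpanSingleton K V a).restrictScalars F + α.smulRight d) ∘ₗ
      ψ.restrictScalars F ∘ₗ h.symm.toLinearMap, fun x => rfl⟩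
  obtain ⟨N', hN'⟩ : ∃ N' : V →ₗ[F] V, ∀ x, N' x = φ x • a :=
    ⟨(φ.smulRight a).restrictScalars F, fun x => rfl⟩
  have hza : ∀ ν : K, ψ (h.symm (ν • a)) = 0 := fun ν => by
    rw [z_line S hψa, hψd, smul_zero, neg_zero]
  have hzd : ψ (h.symm d) = 0 := by rw [z_d S hψa hd, hψd]
  have hZN : ∀ x, ψ (h.symm (N x)) = 0 := fun x => by
    rw [hN, map_add, map_add, hza, map_smul, LinearMap.map_smul_of_tower, hzd, smul_zero, add_zero]
  have h1 : InM M N := (inM_conj hM S hψa 1).congr fun x => by rw [hN, one_mul]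
  have h2 : InM M N' := (hM.root hφa).congr fun x => by rw [hN']
  have hNN' : ∀ x, N (N' x) = 0 := fun x => by
    rw [hN', hN, hza, zero_smul, map_zero, zero_smul, add_zero]
  have h3 := h2.commutator h1 (fun x => by rw [hN', hN', map_smul, hφa, smul_zero, zero_smul])
    fun x => by rw [hN (N x), hZN, zero_smul, map_zero, zero_smul, add_zero]
  refine ⟨a, α ∘ₗ ψ.restrictScalars F ∘ₗ h.symm.toLinearMap, ⟨?_, h3.congr fun x => ?_⟩, S.ne, ?_⟩
  · show α (ψ (h.symm a)) = 0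
    rw [← one_smul K a, hza, map_zero]
  · simp only [hNN', map_zero, sub_zero, add_zero]
    rw [hN, hN', map_add, map_smul φ, LinearMap.map_smul_of_tower, hφa, smul_zero, zero_add, hφd,
      smul_assoc, one_smul]
    rfl
  · intro e
    have h4 : α (ψ (h.symm (h ((μ₁ / ψ w) • w)))) = 0 := LinearMap.congr_fun e _
    rw [h.symm_apply_apply, map_smul, smul_eq_mul, div_mul_cancel₀ _ hψw, S.norm] at h4
    exact one_ne_zero h4

end CfsgLib.LinExt
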