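import Mathlib

set_option autoImplicit false
set_option linter.unusedSectionVars false

/-!
Overgroups of the special linear group over a field extension: root elements, transitivity, and the
spreading of one transvection.
-/

namespace CfsgLib.LinExt

open Module

variable {F K V : Type*} [Field F] [Field K] [Algebra F K] [AddCommGroup V] [Module F V]
  [Module K V] [IsScalarTower F K V]

/-- `1 + N` lies in `M`. -/
def InM (M : Subgroup (V ≃ₗ[F] V)) (N : V → V) : Prop := ∃ g ∈ M, ∀ x, g x = x + N x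

/-- The transvection with centre `p` and functional `f` lies in `M`. -/
def Tr (M : Subgroup (V ≃ₗ[F] V)) (p : V) (f : V →ₗ[F] F) : Prop :=
  f p = 0 ∧ InM M fun x => f x • p

/-- The group contains the determinant one part of the linear group over `K`. -/
structure Over (K : Type*) [Field K] [Algebra F K] [Module K V] [IsScalarTower F K V]
    (M : Subgroup (V ≃ₗ[F] V)) : Prop where
  lin : ∀ g : V ≃ₗ[K] V, LinearMap.det ((g : V →ₗ[K] V).restrictScalars F) = 1 →
    g.restrictScalars F ∈ M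

variable {M : Subgroup (V ≃ₗ[F] V)}

theorem InM.congr {N N' : V → V} (h : InM M N) (e : ∀ x, N x = N' x) : InM M N' := by
  obtain ⟨g, hg, hx⟩ := h
  exact ⟨g, hg, fun x => by rw [hx, e]⟩

theorem InM.conj {N : V → V} (h : InM M N) {g : V ≃ₗ[F] V} (hg : g ∈ M) :
    InM M fun x => g (N (g.symm x)) := by
  obtain ⟨s, hs, hx⟩ := h
  refine ⟨g * s * g⁻¹, M.mul_mem (M.mul_mem hg hs) (M.inv_mem hg), fun x => ?_⟩
  rw [LinearEquiv.mul_apply, LinearEquiv.mul_apply, show g⁻¹ x = g.symm x from rfl, hx, map_add,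
    g.apply_symm_apply]

theorem InM.inv {N : V →ₗ[F] V} (h : InM M N) (h0 : ∀ x, N (N x) = 0) : InM M fun x => -N x := by
  obtain ⟨g, hg, hx⟩ := h
  refine ⟨g⁻¹, M.inv_mem hg, fun x => ?_⟩
  show g.symm x = x + -N x
  refine g.injective ?_
  rw [g.apply_symm_apply, hx, map_add, map_neg, h0, neg_zero, add_zero]
  abel

theorem InM.add {N N' : V →ₗ[F] V} (h : InM M N) (h' : InM M N') (h0 : ∀ x, N (N' x) = 0) :
    InM M fun x => N x + N' x := by
  obtain ⟨g, hg, hx⟩ := h
  obtain ⟨g', hg', hx'⟩ := h'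
  refine ⟨g * g', M.mul_mem hg hg', fun x => ?_⟩
  rw [LinearEquiv.mul_apply, hx', hx, map_add, h0, add_zero]
  abel

theorem Tr.conj {p : V} {f : V →ₗ[F] F} (h : Tr M p f) {g : V ≃ₗ[F] V} (hg : g ∈ M) :
    Tr M (g p) (f ∘ₗ g.symm.toLinearMap) :=
  ⟨by rw [LinearMap.comp_apply, LinearEquiv.coe_coe, g.symm_apply_apply]; exact h.1,
    (h.2.conj hg).congr fun x => by rw [map_smul]; rfl⟩

theorem Tr.zero (p : V) : Tr M p (0 : V →ₗ[F] F) :=
  ⟨rfl, 1, M.one_mem, fun x => by simp⟩

theorem Tr.sub {p : V} {f f' : V →ₗ[F] F} (h : Tr M p f) (h' : Tr M p f') : Tr M p (f - f') := by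
  have h1 : InM M (f.smulRight p) := h.2.congr fun x => rfl
  have h2 : InM M (f'.smulRight p) := h'.2.congr fun x => rfl
  have h3 := h2.inv fun x => by simp [h'.1]
  refine ⟨by simp [h.1, h'.1], ?_⟩
  refine (h1.add (N' := -(f'.smulRight p)) (h3.congr fun x => rfl) fun x => by simp [h.1]).congr
    fun x => ?_
  simp only [LinearMap.sub_apply, LinearMap.neg_apply, LinearMap.smulRight_apply]
  module

/-- The commutator of two transvections. -/
theorem Tr.comm {p p' : V} {f f' : V →ₗ[F] F} (h : Tr M p f) (h' : Tr M p' f') (h0 : f p' = 0) :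
    Tr M p' (f' p • f) := by
  refine ⟨by simp [h0], ?_⟩
  obtain ⟨a, ha, hax⟩ := h.2
  obtain ⟨b, hb, hbx⟩ := h'.2
  refine ⟨b * a * b⁻¹ * a⁻¹, M.mul_mem (M.mul_mem (M.mul_mem hb ha) (M.inv_mem hb)) (M.inv_mem ha),
    fun x => ?_⟩
  have ha' : ∀ y, a⁻¹ y = y - f y • p := fun y => by
    show a.symm y = _
    refine a.injective ?_
    rw [a.apply_symm_apply, hax]
    simp [h.1]
  have hb' : ∀ y, b⁻¹ y = y - f' y • p' := fun y => by
    show b.symm y = _
    refine b.injective ?_
    rw [b.apply_symm_apply, hbx]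
    simp [h'.1]
  simp only [LinearEquiv.mul_apply, ha', hb', hax, hbx]
  simp only [map_sub, map_add, map_smul, smul_eq_mul, h.1, h'.1, h0, LinearMap.smul_apply, sub_smul,
    add_smul, mul_zero, zero_smul, sub_zero, add_zero]
  module

/-- A functional with two prescribed values. -/
theorem exists_dual_pair {a b : V} (h : ∀ k : K, b ≠ k • a) (ha : a ≠ 0) (α β : K) :
    ∃ φ : V →ₗ[K] K, φ a = α ∧ φ b = β := by
  obtain ⟨f, hf, hfk⟩ := Submodule.exists_le_ker_of_notMem (show b ∉ Submodule.span K {a} from fun hb => by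
    obtain ⟨k, hk⟩ := Submodule.mem_span_singleton.1 hb
    exact h k hk.symm)
  obtain ⟨g, hg, hgk⟩ := Submodule.exists_le_ker_of_notMem (show a ∉ Submodule.span K {b} from fun hab => by
    obtain ⟨k, hk⟩ := Submodule.mem_span_singleton.1 hab
    have hk0 : k ≠ 0 := fun e => ha (by rw [← hk, e, zero_smul])
    exact h k⁻¹ (by rw [← hk, inv_smul_smul₀ hk0]))
  have hfa : f a = 0 := hfk (Submodule.mem_span_singleton_self a)
  have hgb : g b = 0 := hgk (Submodule.mem_span_singleton_self b)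
  exact ⟨(α / g a) • g + (β / f b) • f, by simp [hfa, hg], by simp [hgb, hf]⟩

/-- A vector outside a line. -/
theorem exists_off (hdim : 2 ≤ finrank K V) (a : V) : ∃ b : V, ∀ k : K, b ≠ k • a := by
  by_contra hc
  push Not at hc
  haveI : FiniteDimensional K V := Module.finite_of_finrank_pos (by omega)
  have hle : (⊤ : Submodule K V) ≤ Submodule.span K {a} := fun x _ => by
    obtain ⟨k, hk⟩ := hc x
    exact Submodule.mem_span_singleton.2 ⟨k, hk.symm⟩
  have h1 := Submodule.finrank_mono hle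
  rw [finrank_top] at h1
  by_cases ha : a = 0
  · rw [ha, Submodule.span_zero_singleton, finrank_bot] at h1; omega
  · rw [finrank_span_singleton ha] at h1; omega

/-- A non-zero functional killing a vector. -/
theorem exists_perp_one (hdim : 2 ≤ finrank K V) (p : V) : ∃ (φ : V →ₗ[K] K) (x : V), φ p = 0 ∧ φ x = 1 := by
  by_cases hp : p = 0
  · obtain ⟨b, hb⟩ := exists_off hdim p
    obtain ⟨f, hf, -⟩ := Submodule.exists_le_ker_of_notMem (show b ∉ (⊥ : Submodule K V) from fun h => hb 0 (by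
      rw [zero_smul]; exact h))
    exact ⟨f, (f b)⁻¹ • b, by rw [hp, map_zero], by rw [map_smul, smul_eq_mul, inv_mul_cancel₀ hf]⟩
  · obtain ⟨b, hb⟩ := exists_off hdim p
    obtain ⟨φ, h1, h2⟩ := exists_dual_pair hb hp 0 1
    exact ⟨φ, b, h1, h2⟩

variable (hM : Over K M)
include hM

variable [Module.Finite K V]

/-- A transvection over `K`. -/
theorem Over.tv {φ : V →ₗ[K] K} {c : V} (h : φ c = 0) :
    (LinearEquiv.transvection h).restrictScalars F ∈ M := by
  refine hM.lin _ ?_
  rw [LinearMap.det_restrictScalars, LinearEquiv.transvection.coe_toLinearMap,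
    LinearMap.transvection.det, h, add_zero, map_one]

theorem Over.root {φ : V →ₗ[K] K} {c : V} (h : φ c = 0) : InM M fun x => φ x • c :=
  ⟨_, hM.tv h, fun _ => rfl⟩

/-- One step of transitivity, keeping track of the preimage. -/
theorem Over.exists_tv {a b : V} (ha : a ≠ 0) (h : ∀ k : K, b ≠ k • a) :
    ∃ g ∈ M, (∀ (k : K) x, g (k • x) = k • g x) ∧ g a = b := by
  obtain ⟨φ, hφa, hφb⟩ := exists_dual_pair h ha 1 1
  have hc : φ (b - a) = 0 := by rw [map_sub, hφa, hφb, sub_self]
  refine ⟨_, hM.tv hc, fun k x => map_smul (LinearEquiv.transvection hc) k x, ?_⟩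
  show a + φ a • (b - a) = b
  rw [hφa, one_smul, add_sub_cancel]

/-- Transitivity on non-zero vectors. -/
theorem Over.exists_move (hdim : 2 ≤ finrank K V) {a b : V} (ha : a ≠ 0) (hb : b ≠ 0) :
    ∃ g ∈ M, (∀ (k : K) x, g (k • x) = k • g x) ∧ g a = b := by
  by_cases h : ∀ k : K, b ≠ k • a
  · exact hM.exists_tv ha h
  push Not at h
  obtain ⟨k, hk⟩ := h
  have hk0 : k ≠ 0 := fun e => hb (by rw [hk, e, zero_smul])
  obtain ⟨c, hc⟩ := exists_off hdim a
  obtain ⟨g, hg, hgl, hga⟩ := hM.exists_tv ha hc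
  obtain ⟨g', hg', hgl', hgc⟩ := hM.exists_tv (a := c) (b := b) (fun e => hc 0 (by rw [e, zero_smul]))
    fun j e => by
      have hj : j ≠ 0 := fun e0 => hb (by rw [e, e0, zero_smul])
      refine hc (j⁻¹ * k) ?_
      rw [mul_smul, ← hk, e, inv_smul_smul₀ hj]
  exact ⟨g' * g, M.mul_mem hg' hg, fun j x => by
    rw [LinearEquiv.mul_apply, LinearEquiv.mul_apply, hgl, hgl'], by rw [LinearEquiv.mul_apply, hga, hgc]⟩

variable [Module.Finite F K]

omit hM [Module.Finite K V] in
/-- Every functional is a composite with a fixed one. -/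
theorem exists_rep {t : K →ₗ[F] F} (ht : t ≠ 0) (ℓ : K →ₗ[F] F) : ∃ c : K, ∀ μ, t (μ * c) = ℓ μ := by
  set e : K →ₗ[F] (K →ₗ[F] F) := (LinearMap.mul F K).compr₂ t
  have hinj : Function.Injective e := by
    rw [← LinearMap.ker_eq_bot, LinearMap.ker_eq_bot']
    intro z hz
    by_contra hz0
    refine ht (LinearMap.ext fun k => ?_)
    have h1 : t (z * (z⁻¹ * k)) = 0 := LinearMap.congr_fun hz (z⁻¹ * k)
    rwa [mul_inv_cancel_left₀ hz0] at h1
  obtain ⟨c, hc⟩ := (LinearMap.injective_iff_surjective_of_finrank_eq_finrank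
    (Subspace.dual_finrank_eq).symm).1 hinj ℓ
  exact ⟨c, fun μ => by rw [mul_comm]; exact LinearMap.congr_fun hc μ⟩

omit hM [Module.Finite K V] in
/-- The functional attached to a functional over `F`. -/
theorem exists_lift {t : K →ₗ[F] F} (ht : t ≠ 0) (f : V →ₗ[F] F) :
    ∃ φ : V →ₗ[K] K, ∀ x, t (φ x) = f x := by
  choose R hR using fun x : V => exists_rep ht (f ∘ₗ (LinearMap.toSpanSingleton K V x).restrictScalars F)
  have huniq : ∀ {z w : K}, (∀ μ, t (μ * z) = t (μ * w)) → z = w := by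
    intro z w h
    by_contra hne
    refine ht (LinearMap.ext fun k => ?_)
    have h1 := h (k * (z - w)⁻¹)
    rw [← sub_eq_zero, ← map_sub, ← mul_sub, inv_mul_cancel_right₀ (sub_ne_zero.2 hne)] at h1
    exact h1
  refine ⟨{ toFun := R, map_add' := fun x y => huniq fun μ => ?_,
            map_smul' := fun k x => huniq fun μ => ?_ }, fun x => ?_⟩
  · rw [mul_add, map_add, hR, hR, hR]
    simp [smul_add]
  · rw [RingHom.id_apply, smul_eq_mul, ← mul_assoc, hR, hR]
    simp [smul_smul]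
  · show t (R x) = f x
    have := hR x 1
    rw [one_mul] at this
    simpa using this

omit hM [Module.Finite K V] in
/-- An element of norm one not killed. -/
theorem exists_norm_one [Finite K] (hr : (finrank F K).Prime) {t : K →ₗ[F] F} (ht : t ≠ 0) {ν : K}
    (hν : ν ≠ 0) : ∃ ω : K, Algebra.norm F ω = 1 ∧ t (ω * ν) ≠ 0 := by
  classical
  haveI : Finite F := Finite.of_injective _ (algebraMap F K).injective
  cases nonempty_fintype F
  cases nonempty_fintype K
  by_contra hc
  push Not at hc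
  set S := Submodule.span F {ω : K | Algebra.norm F ω = 1}
  have h1 : (1 : K) ∈ S := Submodule.subset_span (map_one _)
  have hmul : ∀ a b, a ∈ S → b ∈ S → a * b ∈ S := by
    intro a b ha hb
    induction ha using Submodule.span_induction with
    | mem x hx =>
      induction hb using Submodule.span_induction with
      | mem y hy =>
        exact Submodule.subset_span (show Algebra.norm F (x * y) = 1 by rw [map_mul, hx, hy, mul_one])
      | zero => rw [mul_zero]; exact zero_mem _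
      | add u w _ _ hu hw => rw [mul_add]; exact add_mem hu hw
      | smul c u _ hu => rw [mul_smul_comm]; exact Submodule.smul_mem _ _ hu
    | zero => rw [zero_mul]; exact zero_mem _
    | add u w _ _ hu hw => rw [add_mul]; exact add_mem hu hw
    | smul c u _ hu => rw [smul_mul_assoc]; exact Submodule.smul_mem _ _ hu
  haveI := Subalgebra.isSimpleOrder_of_finrank_prime F K hr
  rcases eq_bot_or_eq_top (S.toSubalgebra h1 hmul) with h | h
  · obtain ⟨x, hx⟩ := IsCyclic.exists_generator (α := Kˣ)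
    set q := Fintype.card F
    have hq : 1 < q := Fintype.one_lt_card
    have hmem : ((x ^ (q - 1) : Kˣ) : K) ∈ S.toSubalgebra h1 hmul := Submodule.subset_span
      (show Algebra.norm F _ = 1 by
        rw [Units.val_pow_eq_pow_val, map_pow]
        exact FiniteField.pow_card_sub_one_eq_one _ (by simp))
    rw [h, Algebra.mem_bot] at hmem
    obtain ⟨c, hc'⟩ := hmem
    have hone : x ^ ((q - 1) * (q - 1)) = 1 := by
      rw [pow_mul, Units.ext_iff, Units.val_pow_eq_pow_val, ← hc', ← map_pow,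
        FiniteField.pow_card_sub_one_eq_one c fun e => by
          rw [e, map_zero] at hc'
          exact (Units.ne_zero _) hc'.symm]
      simp
    have hdvd := orderOf_dvd_of_pow_eq_one hone
    rw [orderOf_eq_card_of_forall_mem_zpowers hx, Nat.card_units,
      Module.natCard_eq_pow_finrank (K := F) (V := K), Nat.card_eq_fintype_card] at hdvd
    rw [show Fintype.card F = q from rfl] at hdvd
    have hle := Nat.le_of_dvd (Nat.mul_pos (by omega) (by omega)) hdvd
    have hpow : q ^ 2 ≤ q ^ finrank F K := Nat.pow_le_pow_right (by omega) hr.two_le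
    zify [hq.le, Nat.one_le_pow _ q (by omega)] at hle hpow
    nlinarith
  · refine ht (LinearMap.ext fun k => ?_)
    have hk : k * ν⁻¹ ∈ S := (show k * ν⁻¹ ∈ S.toSubalgebra h1 hmul by rw [h]; exact Algebra.mem_top)
    have h2 : ∀ s ∈ S, t (s * ν) = 0 := by
      intro s hs
      induction hs using Submodule.span_induction with
      | mem y hy => exact hc y hy
      | zero => rw [zero_mul, map_zero]
      | add u w _ _ hu hw => rw [add_mul, map_add, hu, hw, add_zero]
      | smul c u _ hu => rw [smul_mul_assoc, map_smul, hu, smul_zero]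
    have := h2 _ hk
    rwa [inv_mul_cancel_right₀ hν] at this

/-- A dilatation. -/
theorem Over.exists_dil {ψ : V →ₗ[K] K} {z : V} (hz : ψ z = 1) {ω : K} (hω : Algebra.norm F ω = 1) :
    ∃ g ∈ M, ∀ x, g.symm x = x + ((ω - 1) * ψ x) • z := by
  have hω0 : ω ≠ 0 := fun e => by
    rw [e, Algebra.norm_zero] at hω
    exact zero_ne_one hω
  have hωi : Algebra.norm F ω⁻¹ = 1 := by
    have h := map_mul (Algebra.norm F) ω⁻¹ ω
    rwa [inv_mul_cancel₀ hω0, map_one, hω, mul_one, eq_comm] at h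
  let L : K → (V →ₗ[K] V) := fun c => LinearMap.transvection ((c - 1) • ψ) z
  have hcomp : ∀ c d : K, c * d = 1 → ∀ x, L c (L d x) = x := fun c d h x => by
    simp only [L, LinearMap.transvection.apply, LinearMap.smul_apply, smul_eq_mul, map_add, map_smul,
      hz, mul_one]
    linear_combination (norm := module) (congrArg (fun k : K => (ψ x * k) • z) h)
  let e : V ≃ₗ[K] V := LinearEquiv.ofLinearMap (L ω⁻¹) (L ω)
    (LinearMap.ext fun x => hcomp _ _ (inv_mul_cancel₀ hω0) x)
    (LinearMap.ext fun x => hcomp _ _ (mul_inv_cancel₀ hω0) x)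
  refine ⟨e.restrictScalars F, hM.lin e ?_, fun x => rfl⟩
  rw [LinearMap.det_restrictScalars,
    show LinearMap.det (e : V →ₗ[K] V) = LinearMap.det (L ω⁻¹) from rfl, LinearMap.transvection.det,
    LinearMap.smul_apply, hz, smul_eq_mul, mul_one, add_sub_cancel, hωi]

/-- A transvection whose functional lives on the line of its centre gives all those killing the line. -/
theorem Over.ann_of_inner {p : V} {f : V →ₗ[F] F} (h : Tr M p f) {μ₀ : K} (hμ : f (μ₀ • p) ≠ 0)
    (g : V →ₗ[F] F) (hg : ∀ μ : K, g (μ • p) = 0) : Tr M p g := by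
  set t₁ : K →ₗ[F] F := f ∘ₗ (LinearMap.toSpanSingleton K V p).restrictScalars F with ht₁
  have hne : t₁ ≠ 0 := fun e => hμ (LinearMap.congr_fun e μ₀)
  obtain ⟨φ, hφ⟩ := exists_lift hne g
  have hφp : φ p = 0 := by
    by_contra hc
    refine hne (LinearMap.ext fun k => ?_)
    have h1 := hφ ((k / φ p) • p)
    rw [hg, map_smul, smul_eq_mul, div_mul_cancel₀ _ hc] at h1
    exact h1
  have hpp : φ p • p = 0 := by rw [hφp, zero_smul]
  obtain ⟨e, he⟩ : ∃ e, e = (LinearEquiv.transvection hφp).restrictScalars F := ⟨_, rfl⟩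
  have heM : e ∈ M := he ▸ hM.tv hφp
  have hep : e p = p := by
    rw [he]; show p + φ p • p = p; rw [hpp, add_zero]
  have hes : ∀ x, e.symm x = x - φ x • p := fun x => by
    refine e.injective ?_
    rw [e.apply_symm_apply, map_sub, he]
    show x = x + φ x • p - (φ x • p + φ (φ x • p) • p)
    rw [map_smul, hφp, smul_zero, zero_smul]
    abel
  have h2 := h.conj heM
  rw [hep] at h2
  convert h.sub h2 using 1
  refine LinearMap.ext fun x => ?_
  rw [LinearMap.sub_apply, LinearMap.comp_apply, LinearEquiv.coe_coe, hes, map_sub, sub_sub_cancel,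
    ← hφ, ht₁]
  rfl

/-- One transvection gives all. -/
theorem Over.all_tr [Finite K] (hr : (finrank F K).Prime) (hdim : 2 ≤ finrank K V) {p : V}
    {f : V →ₗ[F] F} (h : Tr M p f) (hp : p ≠ 0) (hf : f ≠ 0) :
    ∀ (v : V) (g : V →ₗ[F] F), g v = 0 → Tr M v g := by
  -- a centre whose functional does not kill its line
  obtain ⟨p₁, f₁, h₁, hp₁, μ₁, hμ₁⟩ :
      ∃ p₁ f₁, Tr M p₁ f₁ ∧ p₁ ≠ 0 ∧ ∃ μ₁ : K, f₁ (μ₁ • p₁) ≠ 0 := by
    by_cases hl : ∃ μ : K, f (μ • p) ≠ 0
    · exact ⟨p, f, h, hp, hl⟩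
    push Not at hl
    obtain ⟨t, ht⟩ : ∃ t : K →ₗ[F] F, t ≠ 0 := exists_ne 0
    obtain ⟨φ, hφ⟩ := exists_lift ht f
    have hφp : φ p = 0 := by
      by_contra hc
      refine ht (LinearMap.ext fun k => ?_)
      have h1 := hφ ((k / φ p) • p)
      rw [hl, map_smul, smul_eq_mul, div_mul_cancel₀ _ hc] at h1
      exact h1
    obtain ⟨x₀, hx₀⟩ : ∃ x, φ x = 1 := by
      obtain ⟨y, hy⟩ : ∃ y, φ y ≠ 0 := by
        by_contra hc
        push Not at hc
        exact hf (LinearMap.ext fun x => by rw [← hφ, hc, map_zero]; rfl)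
      exact ⟨(φ y)⁻¹ • y, by rw [map_smul, smul_eq_mul, inv_mul_cancel₀ hy]⟩
    obtain ⟨ν, hνt, hν⟩ : ∃ ν, t ν = 0 ∧ ν ≠ 0 := by
      have hne : LinearMap.ker t ≠ ⊥ := by
        intro e
        have h1 := LinearMap.finrank_le_finrank_of_injective (LinearMap.ker_eq_bot.1 e)
        rw [Module.finrank_self] at h1
        have := hr.two_le
        omega
      obtain ⟨ν, h1, h3⟩ := Submodule.exists_mem_ne_zero_of_ne_bot hne
      exact ⟨ν, h1, h3⟩
    obtain ⟨p', hp'⟩ : ∃ p', p' = ν • x₀ := ⟨_, rfl⟩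
    have hφp' : φ p' = ν := by rw [hp', map_smul, hx₀, smul_eq_mul, mul_one]
    have hindep : ∀ k : K, p' ≠ k • p := fun k e => hν (by
      rw [← hφp', e, map_smul, hφp, smul_zero])
    obtain ⟨β, hβp, hβp'⟩ := exists_dual_pair hindep hp 1 0
    obtain ⟨γ, hγp, hγp'⟩ := exists_dual_pair hindep hp 0 1
    obtain ⟨g, hg⟩ : ∃ g, g = (LinearEquiv.transvection (show γ (-p) = 0 by rw [map_neg, hγp, neg_zero])).restrictScalars F *
      (LinearEquiv.transvection hβp').restrictScalars F := ⟨_, rfl⟩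
    have hgM : g ∈ M := hg ▸ M.mul_mem (hM.tv _) (hM.tv _)
    have hgp : g p = p' := by
      rw [hg]
      show p + β p • p' + γ (p + β p • p') • -p = p'
      rw [hβp, one_smul, map_add, hγp, hγp', zero_add, one_smul]
      abel
    have hgp' : g.symm p = p - p' := by
      refine g.injective ?_
      rw [g.apply_symm_apply, map_sub, hgp, hg]
      show p = p' - (p' + β p' • p' + γ (p' + β p' • p') • -p) 
      rw [hβp', zero_smul, add_zero, hγp', one_smul]
      abel
    obtain ⟨ψ, hψ⟩ : ∃ ψ : V →ₗ[K] K, ∀ x, ψ x = φ (g.symm x) := by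
      refine ⟨{ toFun := fun x => φ (g.symm x), map_add' := fun a b => by rw [map_add, map_add],
                map_smul' := fun k x => ?_ }, fun x => rfl⟩
      have hlin : ∀ (k : K) x, g (k • x) = k • g x := fun k x => by
        rw [hg]
        simp only [LinearEquiv.mul_apply, LinearEquiv.restrictScalars_apply, map_smul]
      have e : g.symm (k • x) = k • g.symm x := g.injective (by
        rw [hlin, g.apply_symm_apply, g.apply_symm_apply])
      rw [e, map_smul, RingHom.id_apply, smul_eq_mul]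
    have hψp : ψ p = -ν := by rw [hψ, hgp', map_sub, hφp, hφp', zero_sub]
    have hψp' : ψ p' = 0 := by rw [hψ, ← hgp, g.symm_apply_apply, hφp]
    obtain ⟨ω, hω, hωt⟩ := exists_norm_one hr ht (neg_ne_zero.2 hν)
    obtain ⟨z, hz⟩ : ∃ z, ψ z = 1 :=
      ⟨(-ν)⁻¹ • p, by rw [map_smul, hψp, smul_eq_mul, inv_mul_cancel₀ (neg_ne_zero.2 hν)]⟩
    obtain ⟨d, hd, hdx⟩ := hM.exists_dil hz hω
    have hdp : d p' = p' := by
      refine d.symm.injective ?_
      rw [d.symm_apply_apply, hdx, hψp', mul_zero, zero_smul, add_zero]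
    have h2 := (h.conj hgM).conj hd
    rw [hgp, hdp] at h2
    obtain ⟨f₂, hf₂⟩ : ∃ f₂, f₂ = (f ∘ₗ g.symm.toLinearMap) ∘ₗ d.symm.toLinearMap := ⟨_, rfl⟩
    rw [← hf₂] at h2
    have hf₂x : ∀ x, f₂ x = t (ω * ψ x) := fun x => by
      rw [hf₂]
      show f (g.symm (d.symm x)) = _
      rw [← hφ, ← hψ, hdx, map_add, map_smul, hz, smul_eq_mul, mul_one]
      congr 1
      ring
    have hfp' : f p' = 0 := by rw [← hφ, hφp', hνt]
    refine ⟨p', f₂ p • f, h.comm h2 hfp', fun e => hν (by rw [← hφp', e, map_zero]), ?_⟩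
    obtain ⟨k, hk⟩ : ∃ k, t k ≠ 0 := by
      by_contra hc
      push Not at hc
      exact ht (LinearMap.ext hc)
    refine ⟨k / ν, ?_⟩
    rw [LinearMap.smul_apply, smul_eq_mul, hf₂x, hψp, ← hφ, map_smul, hφp', smul_eq_mul,
      div_mul_cancel₀ _ hν]
    exact mul_ne_zero hωt hk
  -- functionals killing the line of the centre
  have hann : ∀ (v : V) (g : V →ₗ[F] F), v ≠ 0 → (∀ μ : K, g (μ • v) = 0) → Tr M v g := by
    intro v g hv hg
    obtain ⟨s, hs, hlin, hsp⟩ := hM.exists_move hdim hp₁ hv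
    have h2 := h₁.conj hs
    rw [hsp] at h2
    refine hM.ann_of_inner h2 (μ₀ := μ₁) ?_ g hg
    rw [LinearMap.comp_apply, ← hsp, ← hlin, LinearEquiv.coe_coe, s.symm_apply_apply]
    exact hμ₁
  intro v g hgv
  by_cases hv : v = 0
  · subst hv
    exact ⟨hgv, 1, M.one_mem, fun x => by simp⟩
  by_cases hg0 : ∀ μ : K, g (μ • v) = 0
  · exact hann v g hv hg0
  -- a line killed by the functional
  obtain ⟨t, ht⟩ : ∃ t : K →ₗ[F] F, t ≠ 0 := exists_ne 0
  obtain ⟨ψ, hψ⟩ := exists_lift ht g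
  have hψv : ψ v ≠ 0 := fun e => hg0 fun μ => by rw [← hψ, map_smul, e, smul_zero, map_zero]
  obtain ⟨w, hw0, hψw⟩ : ∃ w : V, w ≠ 0 ∧ ψ w = 0 := by
    obtain ⟨b, hb⟩ := exists_off hdim v
    refine ⟨b - (ψ b / ψ v) • v, fun e => hb _ (sub_eq_zero.1 e), ?_⟩
    rw [map_sub, map_smul, smul_eq_mul, div_mul_cancel₀ _ hψv, sub_self]
  have hgw : ∀ μ : K, g (μ • w) = 0 := fun μ => by rw [← hψ, map_smul, hψw, smul_zero, map_zero]
  have hind : ∀ k : K, w ≠ k • v := fun k e => by
    rw [e, map_smul, smul_eq_mul] at hψw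
    rcases mul_eq_zero.1 hψw with h0 | h0
    · exact hw0 (by rw [e, h0, zero_smul])
    · exact hψv h0
  obtain ⟨χ, hχv, hχw⟩ := exists_dual_pair hind hv 0 1
  obtain ⟨t₁, ht₁⟩ : ∃ t₁ : K →ₗ[F] F, t₁ 1 = 1 := by
    obtain ⟨ℓ, hℓ, -⟩ := Submodule.exists_le_ker_of_notMem
      (show (1 : K) ∉ (⊥ : Submodule F K) by simp)
    exact ⟨(ℓ 1)⁻¹ • ℓ, by simp [hℓ]⟩
  obtain ⟨f', hf'⟩ : ∃ f' : V →ₗ[F] F, f' = t₁ ∘ₗ χ.restrictScalars F := ⟨_, rfl⟩
  have h2 := (hann w g hw0 hgw).comm (hann v f' hv fun μ => by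
    rw [hf', LinearMap.comp_apply, LinearMap.restrictScalars_apply, map_smul, hχv, smul_zero, map_zero])
    hgv
  rwa [hf', LinearMap.comp_apply, LinearMap.restrictScalars_apply, hχw, ht₁, one_smul] at h2

end CfsgLib.LinExt
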